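import Cfsg.Agent.HNRec.Global.Main
import Cfsg.Agent.HNRec.Setting

/-!
The hypotheses of the global step from a setting of the model and a map of the presented group.
-/

set_option autoImplicit false
set_option maxRecDepth 100000

namespace Cfsg.Agent.HNRec.Global

open Cfsg.Agent.CosetCert Cfsg.Agent.DCoset Data

/-- A word for the central involution `z0` of the Sylow subgroup. -/
def z0W : List ℕ := [1, 3, 5, 2, 2, 1, 2, 1, 2, 1, 3, 2, 2, 2, 0, 4, 2, 2, 2, 0, 2, 2, 2, 0, 4, 3, 3, 3, 1, 2, 0, 3, 0, 3, 0, 3, 3, 4, 2, 0]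

/-- Its conjugator to `b`. -/
def z0H : List ℕ := [2, 0, 3, 0, 3, 0, 3, 3, 4, 2, 0]

theorem z0_word : HNRec.z0 = hE z0W := by
  refine hm.inj ?_
  rw [HNRec.z0, (E_spec special_ok.2.2.1).1]
  have := keyW_tup hm hm_tab hm_q z0W 1 (by decide +kernel)
  rw [one_mul, hm.one, hm_base] at this
  rw [← this]
  show tupOf SylData.iZ0 = keyW z0W
  decide +kernel

theorem hT_eq : HNRec.hT = tH := by
  rw [tH, hE_wd, HNRec.hT]
  rfl

theorem conj_z0 : hE z0H * HNRec.z0 * (hE z0H)⁻¹ = hE bW := by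
  rw [z0_word, mul_inv_eq_iff_eq_mul, ← hE_append, ← hE_append]
  exact sameW_spec (by decide +kernel)

/-- The hypotheses from a setting. -/
noncomputable def Hyp.ofSetting {G : Type*} [Group G] [Finite G] (S : HNRec.Setting G) (θ : RG →* G)
    (hθ : θ.comp iH = S.Φ) : Hyp G :=
  Hyp.ofModel θ S.Φ hθ S.inj (fun y h => S.mem_range y (by rwa [hT_eq])) fun g e => by
    refine S.not_conj_z0 (isConj_iff.2 ⟨(S.Φ (hE z0H))⁻¹ * g⁻¹, ?_⟩)
    rw [hT_eq, ← e, ← conj_z0]
    simp only [map_mul, map_inv]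
    group

end Cfsg.Agent.HNRec.Global
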