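import Mathlib

/-!
A criterion for a subgroup `K` containing the centralisers of two classes `P`, `A` of involutions
to be the whole group: a bound on the elements of `K` that could make up a further coset.
-/

set_option autoImplicit false

namespace Cfsg.Agent.HNRec.Abs

variable {X : Type*} [Group X]

/-- The hypotheses: two classes of involutions of `K`, a subgroup `E` containing the first. -/
structure Data (X : Type*) [Group X] where
  K : Subgroup X
  E : Subgroup X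
  P : Set X
  A : Set X
  invP : ∀ t ∈ P, t * t = 1
  invA : ∀ a ∈ A, a * a = 1
  oneP : (1 : X) ∉ P
  oneA : (1 : X) ∉ A
  P_le : P ⊆ E
  E_le : E ≤ K
  A_le : A ⊆ K
  E_norm : ∀ k ∈ K, ∀ e ∈ E, k * e * k⁻¹ ∈ E
  P_ne : P.Nonempty
  A_ne : A.Nonempty
  /-- an element carrying a member of either class into `K` lies in `K` -/
  transfer : ∀ x g : X, x ∈ P ∪ A → g * x * g⁻¹ ∈ K → g ∈ K
  /-- the classes do not fuse -/
  fuseP : ∀ t ∈ P, ∀ g : X, g * t * g⁻¹ ∈ K → g * t * g⁻¹ ∈ P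
  fuseA : ∀ a ∈ A, ∀ g : X, g * a * g⁻¹ ∈ K → g * a * g⁻¹ ∈ A
  not_conj : ∀ t ∈ P, ∀ a ∈ A, ∀ g : X, g * a * g⁻¹ ≠ t
  prod_mem : ∀ t ∈ P, ∀ a ∈ A, Commute t a → t * a ∈ P ∪ A

variable (D : Data X)

/-- `H` meets the candidates of every member of `P`. -/
def Data.Hits (H : Subgroup X) : Prop := ∀ t ∈ D.P, ∃ e ∈ H, e ≠ 1 ∧ e * t ∈ D.P ∧ Commute e t

/-- The candidates for the differences of two members of a coset. -/
def Data.cands (U H₀ : Subgroup X) : Set X :=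
  {k | k ∈ D.K ∧ (∀ e ∈ U, k * e * k⁻¹ ∈ U) ∧
    ∃ H₁ ≤ U, D.Hits H₁ ∧ ∀ e ∈ H₀ ⊓ H₁, Commute k e}

theorem conj_of_central_invol {s t : X} (hs : s * s = 1) (ht : t * t = 1) {k : ℕ}
    (hk : orderOf (s * t) = k + k) :
    (s * t) ^ k * t = (s * t) ^ (k / 2) * t * ((s * t) ^ (k / 2))⁻¹ ∨
      (s * t) ^ k * t = (s * t) ^ (k / 2) * s * ((s * t) ^ (k / 2))⁻¹ := by
  set ρ := s * t with hρ
  have hρs : ∀ m : ℕ, s * (ρ ^ m)⁻¹ = ρ ^ m * s := fun m => by
    induction m with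
    | zero => simp
    | succ m ih =>
      have hri : ρ⁻¹ = t * s := by
        rw [hρ, mul_inv_rev, inv_eq_of_mul_eq_one_right ht, inv_eq_of_mul_eq_one_right hs]
      calc s * (ρ ^ (m + 1))⁻¹ = (s * ρ⁻¹) * (ρ ^ m)⁻¹ := by rw [pow_succ, mul_inv_rev, mul_assoc]
        _ = ρ * (s * (ρ ^ m)⁻¹) := by rw [hri, hρ]; simp only [mul_assoc]
        _ = ρ ^ (m + 1) * s := by rw [ih, pow_succ', mul_assoc]; simp only [hρ, mul_assoc]
  have hρt : ∀ m : ℕ, t * (ρ ^ m)⁻¹ = ρ ^ m * t := fun m => by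
    induction m with
    | zero => simp
    | succ m ih =>
      have hri : ρ⁻¹ = t * s := by
        rw [hρ, mul_inv_rev, inv_eq_of_mul_eq_one_right ht, inv_eq_of_mul_eq_one_right hs]
      calc t * (ρ ^ (m + 1))⁻¹ = (t * ρ⁻¹) * (ρ ^ m)⁻¹ := by rw [pow_succ, mul_inv_rev, mul_assoc]
        _ = ρ * (t * (ρ ^ m)⁻¹) := by
          rw [hri, hρ, ← mul_assoc t t s, ht, one_mul]
          simp only [mul_assoc]
          rw [← mul_assoc t t, ht, one_mul]
        _ = ρ ^ (m + 1) * t := by rw [ih, pow_succ', mul_assoc]; simp only [hρ, mul_assoc]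
  rcases Nat.even_or_odd' k with ⟨m, rfl | rfl⟩
  · left
    rw [Nat.mul_div_cancel_left m two_pos, two_mul, pow_add, mul_assoc, mul_assoc, hρt]
  · right
    rw [show (2 * m + 1) / 2 = m by omega, mul_assoc (ρ ^ m) s, hρs, ← mul_assoc, ← pow_add,
      ← two_mul, pow_succ, mul_assoc]
    rw [hρ, mul_assoc s t t, ht, mul_one]

/-- For `s` a conjugate of a member of `A` outside `K`, the centraliser of `s` in `E` hits. -/
theorem Data.hits_of_outside [Finite X] {s : X} (hs : ∃ a ∈ D.A, ∃ g, s = g * a * g⁻¹)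
    (hsK : s ∉ D.K) : D.Hits (D.E ⊓ Subgroup.centralizer {s}) := by
  intro t ht
  obtain ⟨a, ha, g, hg⟩ := hs
  have hs2 : s * s = 1 := by
    rw [hg, show g * a * g⁻¹ * (g * a * g⁻¹) = g * (a * a) * g⁻¹ by group, D.invA a ha]; group
  have ht2 := D.invP t ht
  have htK := D.E_le (D.P_le ht)
  have heven : Even (orderOf (s * t)) := by
    by_contra hodd
    obtain ⟨m, hm⟩ := Nat.not_even_iff_odd.1 hodd
    set ρ := s * t with hρ
    have hst : ρ ^ (2 * m + 1) = 1 := by rw [← hm]; exact pow_orderOf_eq_one _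
    -- conjugation by `ρ ^ m`
    have hρs : ∀ j : ℕ, s * (ρ ^ j)⁻¹ = ρ ^ j * s := fun j => by
      induction j with
      | zero => simp
      | succ j ih =>
        calc s * (ρ ^ (j + 1))⁻¹ = (s * ρ⁻¹) * (ρ ^ j)⁻¹ := by rw [pow_succ, mul_inv_rev, mul_assoc]
          _ = ρ * (s * (ρ ^ j)⁻¹) := by
            rw [hρ, mul_inv_rev, inv_eq_of_mul_eq_one_right ht2, inv_eq_of_mul_eq_one_right hs2]
            simp only [mul_assoc]
          _ = ρ ^ (j + 1) * s := by rw [ih, pow_succ', mul_assoc]; simp only [hρ, mul_assoc]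
    have h1 : ρ ^ m * s * (ρ ^ m)⁻¹ = t := by
      rw [mul_assoc, hρs, ← mul_assoc, ← pow_add, ← two_mul]
      have h2 : ρ ^ (2 * m) = ρ⁻¹ := eq_inv_of_mul_eq_one_left (by rw [← pow_succ]; exact hst)
      rw [h2, hρ, mul_inv_rev, inv_eq_of_mul_eq_one_right ht2, inv_eq_of_mul_eq_one_right hs2,
        mul_assoc, hs2, mul_one]
    exact D.not_conj t ht a ha (ρ ^ m * g) (by rw [← h1, hg]; group)
  obtain ⟨k, hk⟩ := heven
  have hk0 : 0 < k := by have := orderOf_pos (s * t); omega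
  set j := (s * t) ^ k with hj
  have hj2 : j * j = 1 := by rw [hj, ← pow_add, ← hk, pow_orderOf_eq_one]
  have hj1 : j ≠ 1 := fun e => by
    have := orderOf_dvd_of_pow_eq_one e
    have := Nat.le_of_dvd hk0 this
    omega
  have hji : j⁻¹ = j := inv_eq_of_mul_eq_one_right hj2
  have hjt : Commute j t := by
    have h1 : t * (s * t) * t = (s * t)⁻¹ := by
      rw [mul_inv_rev, inv_eq_of_mul_eq_one_right ht2, inv_eq_of_mul_eq_one_right hs2]
      simp only [mul_assoc, ht2, mul_one]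
    have h2 : t * j * t = j := by
      conv_rhs => rw [← hji, hj, ← inv_pow, ← h1]
      rw [hj]
      conv_lhs => rw [show t * (s * t) ^ k * t = t * (s * t) ^ k * t⁻¹ by
        rw [inv_eq_of_mul_eq_one_right ht2]]
      rw [← conj_pow, inv_eq_of_mul_eq_one_right ht2]
    calc j * t = t * j * t * t := by rw [h2]
      _ = t * j := by rw [mul_assoc, ht2, mul_one]
  have hjs : Commute j s := by
    have : Commute j (s * t) := Commute.pow_self _ _
    have h := this.mul_right hjt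
    rwa [mul_assoc, ht2, mul_one] at h
  have hjK : j ∈ D.K := by
    refine D.transfer t j (Or.inl ht) ?_
    rw [hjt.eq, mul_inv_cancel_right]
    exact htK
  have hjPA : j ∉ D.P ∪ D.A := fun h => hsK (D.transfer j s h (by
    rw [← hjs.eq, mul_inv_cancel_right]; exact hjK))
  have hjtK : j * t ∈ D.K := mul_mem hjK htK
  have hjtPA : j * t ∈ D.P ∪ D.A := by
    rcases conj_of_central_invol hs2 ht2 hk with h | h
    · rw [← hj] at h
      exact Or.inl (h ▸ D.fuseP t ht _ (h ▸ hjtK))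
    · rw [← hj, hg, show ∀ w : X, w * (g * a * g⁻¹) * w⁻¹ = (w * g) * a * (w * g)⁻¹ from
        fun w => by group] at h
      refine Or.inr ?_
      rw [h]
      exact D.fuseA a ha _ (h ▸ hjtK)
  have hjtt : Commute t (j * t) := hjt.symm.mul_right (Commute.refl t)
  rcases hjtPA with h | h
  · refine ⟨j, ⟨?_, Subgroup.mem_centralizer_singleton_iff.2 hjs.eq⟩, hj1, h, hjt⟩
    have := mul_mem (D.P_le h) (D.P_le ht)
    rwa [mul_assoc, ht2, mul_one] at this
  · exact absurd (by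
      have := D.prod_mem t ht _ h hjtt
      rwa [hjt.eq, ← mul_assoc, ht2, one_mul] at this) hjPA

/-- The criterion. -/
theorem Data.eq_top [Finite X]
    (bound : ∀ U H₀ J : Subgroup X, U ≤ D.E → H₀ ≤ U → J ≤ D.K → J ⊓ D.E = U →
      (∀ u ∈ U, u ∉ D.P) → D.Hits H₀ →
      (D.cands U H₀ ∩ J).ncard < D.A.ncard) : D.K = ⊤ := by
  classical
  -- it suffices that all conjugates of one member of `A` lie in `K`
  obtain ⟨a₀, ha₀⟩ := D.A_ne
  by_contra hne
  obtain ⟨g₀, hg₀⟩ := SetLike.exists_not_mem_of_ne_top _ hne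
  haveI := Fintype.ofFinite X
  let Φ : (X ⧸ D.K) × D.A → X := fun p => p.1.out * (p.2 : X) * p.1.out⁻¹
  have hΦinj : Function.Injective Φ := by
    intro p q e
    have e' : (q.1.out⁻¹ * p.1.out) * (p.2 : X) * (q.1.out⁻¹ * p.1.out)⁻¹ = q.2 := by
      calc _ = q.1.out⁻¹ * (p.1.out * (p.2 : X) * p.1.out⁻¹) * q.1.out := by group
        _ = q.1.out⁻¹ * (q.1.out * (q.2 : X) * q.1.out⁻¹) * q.1.out := by
          rw [show p.1.out * (p.2 : X) * p.1.out⁻¹ = _ from e]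
        _ = _ := by group
    have hm := D.transfer (p.2 : X) _ (Or.inr p.2.2) (by rw [e']; exact D.A_le q.2.2)
    have h1 : q.1 = p.1 := by
      rw [← QuotientGroup.out_eq' q.1, ← QuotientGroup.out_eq' p.1]
      exact QuotientGroup.eq.mpr hm
    rw [h1, inv_mul_cancel, one_mul, inv_one, mul_one] at e'
    exact Prod.ext h1.symm (Subtype.ext e')
  let fib : (X ⧸ D.K) → Finset ((X ⧸ D.K) × D.A) := fun c =>
    Finset.univ.filter fun p => QuotientGroup.mk (Φ p) = c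
  have hfc : ∀ c, ∀ p ∈ fib c, (QuotientGroup.mk (Φ p) : X ⧸ D.K) = c := fun c p hp => by
    simpa [fib] using hp
  have hA : Fintype.card D.A = D.A.ncard := by
    rw [← Nat.card_coe_set_eq, Nat.card_eq_fintype_card]
  -- at most `|A|` conjugates lie in `K`
  have hfib1 : (fib (QuotientGroup.mk 1)).card ≤ D.A.ncard := by
    have hk : ∀ p ∈ fib (QuotientGroup.mk 1), Φ p ∈ D.A := fun p hp => by
      have := QuotientGroup.eq.mp (hfc _ p hp)
      rw [mul_one, inv_mem_iff] at this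
      exact D.fuseA _ p.2.2 _ this
    rw [← hA, ← Finset.card_univ (α := D.A)]
    exact Finset.card_le_card_of_injOn
      (fun p => if h : Φ p ∈ D.A then ⟨Φ p, h⟩ else ⟨a₀, ha₀⟩) (fun _ _ => Finset.mem_univ _)
      fun p hp q hq e => hΦinj (by
        have h1 := hk p hp
        have h2 := hk q hq
        simp only [dif_pos h1, dif_pos h2] at e
        exact congrArg Subtype.val e)
  obtain ⟨c, hc1, hc⟩ : ∃ c, c ≠ QuotientGroup.mk 1 ∧ D.A.ncard ≤ (fib c).card := by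
    by_contra hno
    push Not at hno
    have hsum : ∑ c, (fib c).card = Fintype.card (X ⧸ D.K) * D.A.ncard := by
      rw [← Finset.card_eq_sum_card_fiberwise
          (f := fun p => (QuotientGroup.mk (Φ p) : X ⧸ D.K)) (fun _ _ => Finset.mem_univ _),
        Finset.card_univ, Fintype.card_prod, hA]
    have hg : (QuotientGroup.mk g₀ : X ⧸ D.K) ≠ QuotientGroup.mk 1 := fun e => hg₀ (by
      have := QuotientGroup.eq.mp e.symm
      simpa using this)
    rw [← Finset.add_sum_erase _ _ (Finset.mem_univ (QuotientGroup.mk 1 : X ⧸ D.K))] at hsum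
    have hlt : ∑ x ∈ Finset.univ.erase (QuotientGroup.mk 1 : X ⧸ D.K), (fib x).card <
        ∑ x ∈ Finset.univ.erase (QuotientGroup.mk 1 : X ⧸ D.K), D.A.ncard :=
      Finset.sum_lt_sum_of_nonempty ⟨_, Finset.mem_erase.2 ⟨hg, Finset.mem_univ _⟩⟩
        fun x hx => hno x (Finset.ne_of_mem_erase hx)
    rw [Finset.sum_const, Finset.card_erase_of_mem (Finset.mem_univ _), Finset.card_univ,
      smul_eq_mul] at hlt
    have : 0 < Fintype.card (X ⧸ D.K) := Fintype.card_pos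
    rw [Nat.sub_mul, one_mul] at hlt
    omega
  have hpos : 0 < D.A.ncard := (Set.ncard_pos (Set.toFinite _)).2 ⟨a₀, ha₀⟩
  obtain ⟨p₀, hp₀⟩ := Finset.card_pos.mp (lt_of_lt_of_le hpos hc)
  set s₀ := Φ p₀ with hs₀
  have out : ∀ p ∈ fib c, Φ p ∉ D.K := fun p hp hm => hc1 (by
    rw [← hfc c p hp]; exact QuotientGroup.eq.mpr (by simpa using inv_mem hm))
  have conjA : ∀ p, ∃ a ∈ D.A, ∃ g, Φ p = g * a * g⁻¹ := fun p => ⟨_, p.2.2, _, rfl⟩
  have sq : ∀ p, Φ p * Φ p = 1 := fun p => by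
    show p.1.out * (p.2 : X) * p.1.out⁻¹ * (p.1.out * (p.2 : X) * p.1.out⁻¹) = 1
    rw [show p.1.out * (p.2 : X) * p.1.out⁻¹ * (p.1.out * (p.2 : X) * p.1.out⁻¹) =
      p.1.out * ((p.2 : X) * p.2) * p.1.out⁻¹ by group, D.invA _ p.2.2]
    group
  have sinv : ∀ p, (Φ p)⁻¹ = Φ p := fun p => inv_eq_of_mul_eq_one_right (sq p)
  -- the subgroup of the two-point stabiliser inside `E`
  let U : Subgroup X := D.E ⊓ D.K.comap (MulAut.conj s₀).toMonoidHom
  have memU : ∀ {e}, e ∈ U ↔ e ∈ D.E ∧ s₀ * e * s₀⁻¹ ∈ D.K := fun {e} => Iff.rfl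
  have hdiff : ∀ p ∈ fib c, s₀⁻¹ * Φ p ∈ D.K := fun p hp =>
    QuotientGroup.eq.mp ((hfc c p₀ hp₀).trans (hfc c p hp).symm)
  have hsU : ∀ p ∈ fib c, D.E ⊓ Subgroup.centralizer {Φ p} ≤ U := by
    rintro p hp e ⟨he, hec⟩
    refine memU.2 ⟨he, ?_⟩
    have hec' : Φ p * e = e * Φ p := (Subgroup.mem_centralizer_singleton_iff.1 hec).symm
    have h1 : s₀ * e * s₀⁻¹ = (s₀⁻¹ * Φ p) * e * (s₀⁻¹ * Φ p)⁻¹ := by
      have i0 : s₀⁻¹ = s₀ := sinv p₀
      have i1 : (Φ p)⁻¹ = Φ p := sinv p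
      rw [mul_inv_rev (s₀⁻¹) (Φ p), i1, inv_inv, i0]
      calc s₀ * e * s₀ = s₀ * (e * (Φ p * Φ p)) * s₀ := by rw [sq, mul_one]
        _ = s₀ * (e * Φ p) * Φ p * s₀ := by group
        _ = _ := by rw [← hec']; group
    rw [h1]
    exact mul_mem (mul_mem (hdiff p hp) (D.E_le he)) (inv_mem (hdiff p hp))
  have hav : ∀ u ∈ U, u ∉ D.P := fun u hu hP =>
    out p₀ hp₀ (D.transfer u s₀ (Or.inl hP) (memU.1 hu).2)
  let J : Subgroup X := D.K ⊓ D.K.comap (MulAut.conj s₀).toMonoidHom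
  have hJE : J ⊓ D.E = U := by
    ext e
    exact ⟨fun h => ⟨h.2, h.1.2⟩, fun h => ⟨⟨D.E_le h.1, h.2⟩, h.1⟩⟩
  have hmemJ : ∀ p ∈ fib c, s₀⁻¹ * Φ p ∈ J := by
    intro p hp
    refine ⟨hdiff p hp, ?_⟩
    show s₀ * (s₀⁻¹ * Φ p) * s₀⁻¹ ∈ D.K
    have h1 := inv_mem (hdiff p hp)
    rw [mul_inv_rev (s₀⁻¹) (Φ p), inv_inv, sinv p] at h1
    rwa [mul_inv_cancel_left, show s₀⁻¹ = s₀ from sinv p₀]
  have hmem : ∀ p ∈ fib c, s₀⁻¹ * Φ p ∈
      D.cands U (D.E ⊓ Subgroup.centralizer {s₀}) := by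
    intro p hp
    refine ⟨hdiff p hp, fun e he => ?_, _, hsU p hp, D.hits_of_outside (conjA p) (out p hp), ?_⟩
    · obtain ⟨he1, he2⟩ := memU.1 he
      refine memU.2 ⟨D.E_norm _ (hdiff p hp) e he1, ?_⟩
      have hj2 : s₀ * (s₀⁻¹ * Φ p) * s₀⁻¹ ∈ D.K := (hmemJ p hp).2
      rw [show s₀ * (s₀⁻¹ * Φ p * e * (s₀⁻¹ * Φ p)⁻¹) * s₀⁻¹ =
        (s₀ * (s₀⁻¹ * Φ p) * s₀⁻¹) * (s₀ * e * s₀⁻¹) * (s₀ * (s₀⁻¹ * Φ p) * s₀⁻¹)⁻¹ by group]
      exact mul_mem (mul_mem hj2 he2) (inv_mem hj2)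
    · rintro e ⟨⟨-, h1⟩, ⟨-, h2⟩⟩
      have c1 : Commute s₀ e := (Subgroup.mem_centralizer_singleton_iff.1 h1).symm
      have c2 : Commute (Φ p) e := (Subgroup.mem_centralizer_singleton_iff.1 h2).symm
      exact c1.inv_left.mul_left c2
  have hbound := bound U _ J inf_le_left (hsU p₀ hp₀) inf_le_left hJE hav
    (D.hits_of_outside (conjA p₀) (out p₀ hp₀))
  have hle : (fib c).card ≤ (D.cands U (D.E ⊓ Subgroup.centralizer {s₀}) ∩ J).ncard := by
    rw [← Set.ncard_coe_finset]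
    exact Set.ncard_le_ncard_of_injOn (fun p => s₀⁻¹ * Φ p) (fun p hp => ⟨hmem p hp, hmemJ p hp⟩)
      (fun p _ q _ e => hΦinj (mul_left_cancel e)) (Set.toFinite _)
  exact absurd hbound (not_lt.2 (hc.trans hle))

end Cfsg.Agent.HNRec.Abs
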