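import Cfsg.Agent.S1701
import Cfsg.Agent.HNA12.Main
import Cfsg.Agent.HNOrder.HModel
import Cfsg.Agent.HNOrder.Glue

/-!
Words in the presented Harada–Norton group, its faithful representation, and the model of the
subgroup on `x, y, z`: letters `x X y Y z Z` are `0..5` there.
-/

set_option autoImplicit false
set_option maxRecDepth 100000

namespace Cfsg.Agent.HNRec.Global

open Cfsg.Agent.HNSub Cfsg.Agent.HNA12 Cfsg.Agent.HNOrder Cfsg.Agent.DCoset Cfsg.Agent.CosetCert Cfsg.Spor

/-- The presented group. -/
abbrev RG : Type := Cfsg.Spor.HN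

/-- The element of a numbered letter. -/
def lE (x : ℕ) : RG := PresentedGroup.mk hnRels (FreeGroup.mk [HNA12.letter x])

/-- The element of a word. -/
def ev (w : List ℕ) : RG := (w.map lE).prod

theorem ev_append (u v : List ℕ) : ev (u ++ v) = ev u * ev v := by rw [ev, List.map_append, List.prod_append]; rfl

theorem hnRep_injective : Function.Injective hnRep := by
  have hs : IsSimpleGroup (PresentedGroup hnRels) := (Cfsg.Agent.S1701.result).1
  rw [← MonoidHom.ker_eq_bot_iff]
  rcases hs.eq_bot_or_eq_top_of_normal hnRep.ker hnRep.normal_ker with h | h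
  · exact h
  · have hk : HNA12.elem 0 ∈ hnRep.ker := by rw [h]; exact Subgroup.mem_top _
    exact absurd (MonoidHom.mem_ker.1 hk) rep_elem_ne

theorem rep_lE {x : ℕ} (hx : x < 8) :
    ((hnRep (lE x) : (Matrix (Fin 133) (Fin 133) (ZMod 41))ˣ) : Matrix (Fin 133) (Fin 133) (ZMod 41)) = M133 x := by
  have hl : lcode (HNA12.letter x) = x := by interval_cases x <;> rfl
  have e' : ∀ L, hnRep (PresentedGroup.mk hnRels (FreeGroup.mk L)) = FreeGroup.lift unit133 (FreeGroup.mk L) :=
    fun L => rfl
  have e : hnRep (lE x) = FreeGroup.lift unit133 (FreeGroup.mk [HNA12.letter x]) := by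
    rw [lE]; exact e' _
  rw [e, coe_lift133, List.map_cons, List.map_nil, List.map_cons, List.map_nil, hl, List.prod_singleton]

theorem rep_ev : ∀ {w : List ℕ}, w.all (Nat.blt · 8) = true →
    ((hnRep (ev w) : (Matrix (Fin 133) (Fin 133) (ZMod 41))ˣ) : Matrix (Fin 133) (Fin 133) (ZMod 41)) = (w.map M133).prod
  | [], _ => by simp [ev]
  | x :: w, h => by
    rw [List.all_cons, Bool.and_eq_true, Nat.blt_eq] at h
    rw [show ev (x :: w) = lE x * ev w by simp [ev], map_mul, Units.val_mul, rep_lE h.1, rep_ev h.2]
    simp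

/-- The element of a word of the model. -/
def hE (w : List ℕ) : HGroup := (w.map (letterEl HRels)).prod

theorem hE_append (u v : List ℕ) : hE (u ++ v) = hE u * hE v := by
  rw [hE, List.map_append, List.prod_append]; rfl

/-- The inclusion of the model. -/
theorem exists_iota : ∃ ι : HGroup →* RG, Function.Injective ι ∧
    ι.range = (HNMult.sub3 : Subgroup RG) ∧
    ∀ g < 6, ι (letterEl HRels g) = lE ([0, 4, 1, 5, 2, 6].getD g 0) := by
  obtain ⟨e, ι, hι, he, hrange⟩ := exists_hom_sub3
  have := hgroup_card.1
  refine ⟨e.toMonoidHom.comp ι, ?_, hrange, ?_⟩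
  · have hs : Function.Surjective (e.toMonoidHom.comp ι).rangeRestrict := MonoidHom.rangeRestrict_surjective _
    have hc : Nat.card ↥(e.toMonoidHom.comp ι).range = 177408000 := by rw [hrange]; exact card_sub3
    have hle := hgroup_card.2
    have hge := Nat.card_le_card_of_surjective _ hs
    have hb := ((Nat.bijective_iff_surjective_and_card _).2
      ⟨hs, (by omega : Nat.card HGroup = Nat.card ↥(e.toMonoidHom.comp ι).range)⟩).1
    exact fun a c h => hb (Subtype.ext h)
  · intro g hg
    have e1 : ∀ b : Fin 4, e (wd GRels [(b, true)]) = PresentedGroup.of (gGen b) := he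
    have e2 : ∀ b : Fin 4, e (wd GRels [(b, false)]) = (PresentedGroup.of (gGen b))⁻¹ := fun b => by
      rw [show ([(b, false)] : List (Fin 4 × Bool)) = FreeGroup.invRev [(b, true)] from rfl, wd_invRev,
        map_inv, e1]
    show e (ι (wd HRels [letOf 2 g])) = _
    rw [hι]
    interval_cases g
    · exact e1 0
    · exact (e2 0).trans rfl
    · exact e1 1
    · exact (e2 1).trans rfl
    · exact e1 2
    · exact (e2 2).trans rfl

/-- The inclusion of the model. -/
noncomputable def iH : HGroup →* RG := exists_iota.choose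

theorem iH_injective : Function.Injective iH := exists_iota.choose_spec.1

theorem iH_range : iH.range = (HNMult.sub3 : Subgroup RG) := exists_iota.choose_spec.2.1

/-- The letters in the numbering of the presented group. -/
def cvL (g : ℕ) : ℕ := [0, 4, 1, 5, 2, 6].getD g 0

/-- A word in the numbering of the presented group. -/
def cvW (w : List ℕ) : List ℕ := w.map cvL

theorem iH_hE : ∀ {w : List ℕ}, w.all (Nat.blt · 6) = true → iH (hE w) = ev (cvW w)
  | [], _ => by simp [hE, ev, cvW]
  | x :: w, h => by
    rw [List.all_cons, Bool.and_eq_true, Nat.blt_eq] at h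
    rw [show hE (x :: w) = letterEl HRels x * hE w by simp [hE], map_mul, iH_hE h.2,
      show iH (letterEl HRels x) = _ from exists_iota.choose_spec.2.2 x h.1]
    simp [ev, cvW, cvL]

/-- The images of the base points under a word. -/
noncomputable def keyW (w : List ℕ) : ℕ :=
  List.rec (motive := fun _ => ℕ → ℕ) (fun v => v)
    (fun g _ ih v => force (mapTup (HN.tab.act g) 6 v) ih) w HN.tab.base

theorem keyW_tup (P : QModel HGroup) (hP : P.toTab = HN.tab) (hq : P.q = letterEl HRels) :
    ∀ (w : List ℕ) (a : HGroup), w.all (Nat.blt · 6) = true →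
      List.rec (motive := fun _ => ℕ → ℕ) (fun v => v)
        (fun g _ ih v => force (mapTup (HN.tab.act g) 6 v) ih) w (P.tup a) = P.tup (a * hE w)
  | [], a, _ => by simp [hE]
  | g :: w, a, h => by
    rw [List.all_cons, Bool.and_eq_true, Nat.blt_eq] at h
    show force (mapTup (HN.tab.act g) 6 (P.tup a)) _ = _
    rw [force_eq]
    have hs := P.step a g (by rw [hP]; exact h.1)
    rw [hP, hq] at hs
    rw [show mapTup (HN.tab.act g) 6 (P.tup a) = P.tup (a * letterEl HRels g) from hs.symm,
      keyW_tup P hP hq w _ h.2, mul_assoc]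
    simp [hE]

/-- Two words of the model are equal if they move the base points alike. -/
noncomputable def sameW (u v : List ℕ) : Bool :=
  u.all (Nat.blt · 6) && v.all (Nat.blt · 6) && Nat.beq (keyW u) (keyW v)

theorem sameW_spec {u v : List ℕ} (h : sameW u v = true) : hE u = hE v := by
  obtain ⟨P, hP, hq⟩ := exists_hmodel
  simp only [sameW, Bool.and_eq_true, Nat.beq_eq] at h
  obtain ⟨⟨hu, hv⟩, hk⟩ := h
  have h1 : ∀ {w : List ℕ}, w.all (Nat.blt · 6) = true → keyW w = P.tup (hE w) := fun {w} hw => by
    have := keyW_tup P hP hq w 1 hw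
    rw [one_mul, P.one, show P.base = HN.tab.base by rw [hP]] at this
    exact this
  exact P.inj (by rw [← h1 hu, ← h1 hv, hk])

/-- Two words of the model differ if they move the base points differently. -/
noncomputable def diffW (u v : List ℕ) : Bool :=
  u.all (Nat.blt · 6) && v.all (Nat.blt · 6) && !(Nat.beq (keyW u) (keyW v))

theorem diffW_spec {u v : List ℕ} (h : diffW u v = true) : hE u ≠ hE v := by
  obtain ⟨P, hP, hq⟩ := exists_hmodel
  simp only [diffW, Bool.and_eq_true, Bool.not_eq_true', ← Bool.not_eq_true, Nat.beq_eq] at h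
  obtain ⟨⟨hu, hv⟩, hk⟩ := h
  have h1 : ∀ {w : List ℕ}, w.all (Nat.blt · 6) = true → keyW w = P.tup (hE w) := fun {w} hw => by
    have := keyW_tup P hP hq w 1 hw
    rw [one_mul, P.one, show P.base = HN.tab.base by rw [hP]] at this
    exact this
  exact fun e => hk (by rw [h1 hu, h1 hv, e])

end Cfsg.Agent.HNRec.Global
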