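import Cfsg.Agent.HNRec.Global.Crit
import Cfsg.Agent.HNRec.Global.Data.Bound

/-!
The bound of the criterion: the subgroups of the vectors avoiding the sixty, up to the action, and
the maps that could make up a further coset.
-/

set_option autoImplicit false
set_option maxRecDepth 100000

namespace Cfsg.Agent.HNRec.Global

open Cfsg.Agent.CosetCert Cfsg.Agent.DCoset Data

/-- The span of a list of vectors. -/
def spanL (b : List ℕ) : List ℕ := b.foldl (fun l v => l ++ l.map (· ^^^ v)) [0]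

theorem spanL_snoc (b : List ℕ) (v : ℕ) :
    spanL (b ++ [v]) = spanL b ++ (spanL b).map (· ^^^ v) := by
  rw [spanL, List.foldl_append]; rfl

theorem mem_snoc {b : List ℕ} {v x : ℕ} :
    x ∈ spanL (b ++ [v]) ↔ x ∈ spanL b ∨ x ^^^ v ∈ spanL b := by
  rw [spanL_snoc, List.mem_append, List.mem_map]
  refine or_congr_right ⟨?_, fun h => ⟨_, h, by rw [Nat.xor_assoc, Nat.xor_self, Nat.xor_zero]⟩⟩
  rintro ⟨a, ha, rfl⟩
  rwa [Nat.xor_assoc, Nat.xor_self, Nat.xor_zero]

theorem zero_mem_spanL (b : List ℕ) : 0 ∈ spanL b := by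
  induction b using List.reverseRecOn with
  | nil => simp [spanL]
  | append_singleton b v ih => exact mem_snoc.2 (Or.inl ih)

theorem xor_mem_spanL : ∀ {b : List ℕ} {x y : ℕ}, x ∈ spanL b → y ∈ spanL b → x ^^^ y ∈ spanL b := by
  intro b
  induction b using List.reverseRecOn with
  | nil => intro x y hx hy; simp_all [spanL]
  | append_singleton b v ih =>
    intro x y hx hy
    rw [mem_snoc] at hx hy ⊢
    have e1 : (x ^^^ v) ^^^ (y ^^^ v) = x ^^^ y := by
      apply Nat.eq_of_testBit_eq; intro i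
      simp only [Nat.testBit_xor]
      cases x.testBit i <;> cases y.testBit i <;> cases v.testBit i <;> rfl
    rcases hx with hx | hx <;> rcases hy with hy | hy
    · exact Or.inl (ih hx hy)
    · exact Or.inr (by rw [Nat.xor_assoc]; exact ih hx hy)
    · refine Or.inr ?_
      rw [show (x ^^^ y) ^^^ v = (x ^^^ v) ^^^ y by rw [Nat.xor_assoc, Nat.xor_comm y v, Nat.xor_assoc]]
      exact ih hx hy
    · exact Or.inl (e1 ▸ ih hx hy)

theorem mem_spanL_self : ∀ {b : List ℕ} {v : ℕ}, v ∈ b → v ∈ spanL b := by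
  intro b
  induction b using List.reverseRecOn with
  | nil => intro v h; exact absurd h List.not_mem_nil
  | append_singleton b w ih =>
    intro v h
    rw [List.mem_append, List.mem_singleton] at h
    rw [mem_snoc]
    rcases h with h | rfl
    · exact Or.inl (ih h)
    · exact Or.inr (by rw [Nat.xor_self]; exact zero_mem_spanL b)

theorem spanL_sub {p : ℕ → Prop} (h0 : p 0) :
    ∀ {b : List ℕ}, (∀ v ∈ b, ∀ x, p x → p (x ^^^ v)) → ∀ x ∈ spanL b, p x := by
  intro b
  induction b using List.reverseRecOn with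
  | nil => intro _ x hx; simp [spanL] at hx; exact hx ▸ h0
  | append_singleton b w ih =>
    intro h x hx
    have hb := ih fun v hv => h v (List.mem_append_left _ hv)
    rcases mem_snoc.1 hx with hx | hx
    · exact hb x hx
    · have := h w (List.mem_append_right _ (List.mem_singleton_self w)) _ (hb _ hx)
      rwa [Nat.xor_assoc, Nat.xor_self, Nat.xor_zero] at this

theorem spanL_lt {b : List ℕ} (h : ∀ v ∈ b, v < 256) {x : ℕ} (hx : x ∈ spanL b) : x < 256 :=
  spanL_sub (p := (· < 256)) (by norm_num) (fun v hv _ hy => Nat.xor_lt_two_pow (n := 8) hy (h v hv)) x hx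

theorem mem_spanL_map (m : ℕ) : ∀ {b : List ℕ} {x : ℕ},
    x ∈ spanL (b.map (la m)) ↔ ∃ y ∈ spanL b, la m y = x := by
  intro b
  induction b using List.reverseRecOn with
  | nil => intro x; simp [spanL, la_zero, eq_comm]
  | append_singleton b v ih =>
    intro x
    rw [List.map_append, List.map_singleton, mem_snoc, ih, ih]
    constructor
    · rintro (⟨y, hy, rfl⟩ | ⟨y, hy, e⟩)
      · exact ⟨y, mem_snoc.2 (Or.inl hy), rfl⟩
      · refine ⟨y ^^^ v, mem_snoc.2 (Or.inr (by rwa [Nat.xor_assoc, Nat.xor_self, Nat.xor_zero])), ?_⟩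
        rw [la_xor, e, Nat.xor_assoc, Nat.xor_self, Nat.xor_zero]
    · rintro ⟨y, hy, rfl⟩
      rcases mem_snoc.1 hy with hy | hy
      · exact Or.inl ⟨y, hy, rfl⟩
      · exact Or.inr ⟨_, hy, la_xor m y v⟩

/-- A list as a mask. -/
noncomputable def maskL (l : List ℕ) : ℕ :=
  List.rec 0 (fun v _ r => Nat.lor r (Nat.shiftLeft 1 v)) l

theorem testBit_maskL {x : ℕ} : ∀ {l : List ℕ}, (maskL l).testBit x = true ↔ x ∈ l
  | [] => by simp [maskL]
  | v :: l => by
    show (maskL l ||| 1 <<< v).testBit x = true ↔ _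
    rw [Nat.testBit_or, Bool.or_eq_true, testBit_maskL, Nat.one_shiftLeft, Nat.testBit_two_pow,
      decide_eq_true_eq, List.mem_cons]
    exact ⟨fun h => h.symm.imp_left Eq.symm, fun h => h.symm.imp_right Eq.symm⟩

theorem mem_iff_of_mask {l l' : List ℕ} (h : Nat.beq (maskL l) (maskL l') = true) (x : ℕ) :
    x ∈ l ↔ x ∈ l' := by
  rw [← testBit_maskL, ← testBit_maskL, Nat.eq_of_beq_eq_true h]

/-- The linear map sends one list onto the other. -/
def Maps (m : ℕ) (U W : List ℕ) : Prop := (∀ x ∈ U, la m x ∈ W) ∧ ∀ y ∈ W, ∃ x ∈ U, la m x = y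

theorem act_comp {a c : RG} {m n r : ℕ} (ha : Act a m) (hc : Act c n) (h : Act (a * c) r) (v : ℕ) :
    la r v = la m (la n v) := by
  obtain ⟨d, hd, hdl⟩ := hc v
  obtain ⟨d', hd', hdl'⟩ := ha d
  obtain ⟨d'', hd'', hdl''⟩ := h v
  rw [← hdl'', ← hdl, la_mod, ← hdl']
  apply el_low_inj
  rw [← hd'', ← hd', ← hd]; group

theorem comp_index {i k : ℕ} (hi : i < nM) (hk : k < nM) :
    ∃ r < nM, ∀ v, la (mA r) v = la (mA k) (la (mA i) v) := by
  obtain ⟨r, hr, ha⟩ := exists_index (mul_mem (kOf_spec hk).1 (kOf_spec hi).1)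
  exact ⟨r, hr, act_comp (kOf_spec hk).2 (kOf_spec hi).2 ha⟩

theorem inv_index {i : ℕ} (hi : i < nM) :
    ∃ r < nM, ∀ v, la (mA r) (la (mA i) v) = v % 256 ∧ la (mA i) (la (mA r) v) = v % 256 := by
  obtain ⟨hk, ha⟩ := kOf_spec hi
  obtain ⟨r, hr, hb⟩ := exists_index (inv_mem hk)
  have h1 : Act (1 : RG) (mA 0) := by simpa [el, elt, valN] using act_el 0
  refine ⟨r, hr, fun v => ⟨?_, ?_⟩⟩
  · rw [← la_one, act_comp hb ha (by rw [inv_mul_cancel]; exact h1) v]
  · rw [← la_one, act_comp ha hb (by rw [mul_inv_cancel]; exact h1) v]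

theorem la_inj {i : ℕ} (hi : i < nM) {x y : ℕ} (hx : x < 256) (hy : y < 256)
    (h : la (mA i) x = la (mA i) y) : x = y := by
  obtain ⟨r, -, hr⟩ := inv_index hi
  rw [← Nat.mod_eq_of_lt hx, ← Nat.mod_eq_of_lt hy, ← (hr x).1, h, (hr y).1]

theorem P_map {i : ℕ} (hi : i < nM) {v : ℕ} (h : v ∈ pList) : la (mA i) v ∈ pList := by
  have hh := List.all_eq_true.1 p_index _ h
  have hne : ¬ ∀ a, 0 ≤ a → a < 0 + 7200 → (!(Nat.beq (la (mA a) 2) v)) = true := by
    rw [← allFrom_iff (fun a => !(Nat.beq (la (mA a) 2) v)) 0 7200]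
    simpa using hh
  push Not at hne
  obtain ⟨a, -, ha, he⟩ := hne
  rw [Bool.not_eq_true, Bool.not_eq_false'] at he
  obtain ⟨r, hr, hc⟩ := comp_index (i := a) (by rw [nM]; omega) hi
  rw [← Nat.eq_of_beq_eq_true he, ← hc]
  have hc := (allFrom_iff _ _ _).1 orbit_check r (Nat.zero_le _) (by rw [nM] at hr; omega)
  rw [force_eq, Bool.and_eq_true, inL_iff] at hc
  exact hc.1

theorem P_map_iff {i : ℕ} (hi : i < nM) {v : ℕ} (hv : v < 256) :
    la (mA i) v ∈ pList ↔ v ∈ pList := by
  refine ⟨fun h => ?_, P_map hi⟩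
  obtain ⟨r, hr, e⟩ := inv_index hi
  have := P_map hr h
  rwa [(e v).1, Nat.mod_eq_of_lt hv] at this

/-- The mask of the sixty vectors. -/
noncomputable def pMask : ℕ := maskL pList

/-- Some member of the translate of the span lies among the sixty. -/
noncomputable def meetsP (b : List ℕ) (v : ℕ) : Bool := (spanL b).any fun x => pMask.testBit (x ^^^ v)

/-- The witness for an extension of a representative. -/
noncomputable def extB (j v : ℕ) : Bool :=
  force (maskL (spanL (reps.getD j []))) fun mR => mR.testBit v || meetsP (reps.getD j []) v ||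
    force (get16 wjS (256 * j + v)) fun w => force (get16 wkS (256 * j + v)) fun k =>
      force (mA k) fun m => Nat.blt w 25 && (Nat.blt k 7200 &&
        Nat.beq (maskL ((spanL (reps.getD j [] ++ [v])).map (la m))) (maskL (spanL (reps.getD w []))))

theorem ext_check : allFrom (fun j => allFrom (fun v => extB j v) 0 256) 0 25 = true := by decide +kernel

theorem reps_lt : allFrom (fun j => (reps.getD j []).all (Nat.blt · 256)) 0 25 = true := by decide +kernel

theorem rep_lt {j : ℕ} (hj : j < 25) {x : ℕ} (hx : x ∈ spanL (reps.getD j [])) : x < 256 :=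
  spanL_lt (fun v hv => Nat.blt_eq.mp (List.all_eq_true.1
    ((allFrom_iff _ _ _).1 reps_lt j (Nat.zero_le _) (by omega)) v hv)) hx

/-- Every span avoiding the sixty vectors goes to a representative. -/
theorem canon : ∀ l : List ℕ, (∀ v ∈ l, v < 256) → (∀ x ∈ spanL l, x ∉ pList) →
    ∃ i < nM, ∃ j < 25, Maps (mA i) (spanL l) (spanL (reps.getD j [])) := by
  intro l
  induction l using List.reverseRecOn with
  | nil =>
    intro _ _
    refine ⟨0, by norm_num [nM], 0, by norm_num, ?_, ?_⟩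
    · intro x hx; simp [spanL] at hx; subst hx; rw [la_zero]; exact zero_mem_spanL _
    · intro y hy; exact ⟨0, zero_mem_spanL _, by simp [reps, spanL] at hy; rw [hy, la_zero]⟩
  | append_singleton l v ih =>
    intro hlt hav
    have hl : ∀ w ∈ l, w < 256 := fun w hw => hlt w (List.mem_append_left _ hw)
    have hv : v < 256 := hlt v (List.mem_append_right _ (List.mem_singleton_self v))
    obtain ⟨i, hi, j, hj, h1, h2⟩ := ih hl fun x hx => hav x (mem_snoc.2 (Or.inl hx))
    set b := reps.getD j [] with hb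
    set v' := la (mA i) v with hv'
    have hback : ∀ y, y ^^^ v' ∈ spanL b → ∃ x ∈ spanL (l ++ [v]), la (mA i) x = y := by
      intro y hy
      obtain ⟨x, hx, e⟩ := h2 _ hy
      refine ⟨x ^^^ v, mem_snoc.2 (Or.inr (by rwa [Nat.xor_assoc, Nat.xor_self, Nat.xor_zero])), ?_⟩
      rw [la_xor, e, Nat.xor_assoc, Nat.xor_self, Nat.xor_zero]
    by_cases hin : v' ∈ spanL b
    · refine ⟨i, hi, j, hj, fun x hx => ?_, fun y hy => ?_⟩
      · rcases mem_snoc.1 hx with hx | hx
        · exact h1 x hx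
        · have := xor_mem_spanL (h1 _ hx) hin
          rwa [la_xor, Nat.xor_assoc, Nat.xor_self, Nat.xor_zero] at this
      · obtain ⟨x, hx, e⟩ := h2 y hy
        exact ⟨x, mem_snoc.2 (Or.inl hx), e⟩
    · have hm : meetsP b v' = false := by
        rw [← Bool.not_eq_true]
        intro hm
        obtain ⟨y, hy, hp⟩ := List.any_eq_true.1 hm
        rw [pMask, testBit_maskL] at hp
        obtain ⟨x, hx, e⟩ := hback (y ^^^ v') (by rwa [Nat.xor_assoc, Nat.xor_self, Nat.xor_zero])
        rw [← e, P_map_iff hi (spanL_lt hlt hx)] at hp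
        exact hav x hx hp
      have hc := (allFrom_iff _ _ _).1 ((allFrom_iff _ _ _).1 ext_check j (Nat.zero_le _) (by omega)) v'
        (Nat.zero_le _) (by have := la_lt (mA i) v; omega)
      simp only [extB, force_eq, Bool.or_eq_true, Bool.and_eq_true, testBit_maskL] at hc
      rw [← hb, hm] at hc
      rcases hc with (hc | hc) | ⟨hw, hk, hmask⟩
      · exact absurd hc hin
      · exact absurd hc Bool.false_ne_true
      rw [Nat.blt_eq] at hw hk
      obtain ⟨r, hr, hcomp⟩ := comp_index hi (k := get16 wkS (256 * j + v')) (by rw [nM]; omega)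
      refine ⟨r, hr, _, hw, fun x hx => ?_, fun y hy => ?_⟩
      · rw [← mem_iff_of_mask hmask, hcomp]
        refine List.mem_map.2 ⟨_, ?_, rfl⟩
        rcases mem_snoc.1 hx with hx | hx
        · exact mem_snoc.2 (Or.inl (h1 x hx))
        · exact mem_snoc.2 (Or.inr (by rw [hv', ← la_xor]; exact h1 _ hx))
      · rw [← mem_iff_of_mask hmask, List.mem_map] at hy
        obtain ⟨z, hz, rfl⟩ := hy
        rcases mem_snoc.1 hz with hz | hz
        · obtain ⟨x, hx, rfl⟩ := h2 z hz
          exact ⟨x, mem_snoc.2 (Or.inl hx), hcomp x⟩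
        · obtain ⟨x, hx, rfl⟩ := hback z hz
          exact ⟨x, hx, hcomp x⟩

/-- A list of vectors hits every one of the sixty. -/
noncomputable def hitV (l : List ℕ) : Bool :=
  pList.all fun t => l.any fun e => !(Nat.beq e 0) && pMask.testBit (e ^^^ t)

/-- The bases of the subgroups of a representative that hits. -/
def subB (n s : ℕ) : List ℕ := (subsL.getD n []).getD s []

/-- The representative. -/
def repB (n : ℕ) : List ℕ := reps.getD (hitReps.getD n 0) []

/-- The number of its subgroups. -/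
def nSub (n : ℕ) : ℕ := (subsL.getD n []).length

theorem hit_check : allFrom (fun j => !(hitV (spanL (reps.getD j []))) ||
    (List.range 9).any fun n => Nat.beq (hitReps.getD n 0) j) 0 25 = true := by decide +kernel

theorem hitReps_lt : allFrom (fun n => Nat.blt (hitReps.getD n 0) 25) 0 9 = true := by decide +kernel

theorem sub_check : allFrom (fun n => Nat.blt 0 (nSub n) && ((subB n 0).isEmpty &&
    allFrom (fun s => allFrom (fun p => force (((subsN.getD n []).getD s []).getD p 0) fun s' =>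
      Nat.blt s' (nSub n) && Nat.beq (maskL (spanL (subB n s ++ [(spanL (repB n)).getD p 0])))
        (maskL (spanL (subB n s')))) 0 (spanL (repB n)).length) 0 (nSub n))) 0 9 = true := by
  decide +kernel

theorem sub_find {n : ℕ} (hn : n < 9) : ∀ l : List ℕ, (∀ v ∈ l, v ∈ spanL (repB n)) →
    ∃ s < nSub n, ∀ x, x ∈ spanL l ↔ x ∈ spanL (subB n s) := by
  have hc := (allFrom_iff _ _ _).1 sub_check n (Nat.zero_le _) (by omega)
  simp only [Bool.and_eq_true, Nat.blt_eq] at hc
  obtain ⟨h0, he, hs⟩ := hc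
  intro l
  induction l using List.reverseRecOn with
  | nil => intro _; exact ⟨0, h0, fun x => by rw [List.isEmpty_iff.1 he]⟩
  | append_singleton l v ih =>
    intro h
    obtain ⟨s, hsl, hsx⟩ := ih fun w hw => h w (List.mem_append_left _ hw)
    obtain ⟨p, hp, he'⟩ := List.mem_iff_getElem.1 (h v (List.mem_append_right _ (List.mem_singleton_self v)))
    have hh := (allFrom_iff _ _ _).1 ((allFrom_iff _ _ _).1 hs s (Nat.zero_le _) (by omega)) p
      (Nat.zero_le _) (by omega)
    simp only [force_eq, Bool.and_eq_true, Nat.blt_eq] at hh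
    rw [List.getD_eq_getElem _ _ hp, he'] at hh
    refine ⟨_, hh.1, fun x => ?_⟩
    rw [← mem_iff_of_mask hh.2, mem_snoc, mem_snoc, hsx, hsx]

theorem hitSubs_check : allFrom (fun n => allFrom (fun s => !(hitV (spanL (subB n s))) ||
    inL (hitSubs.getD n []) s) 0 (nSub n)) 0 9 = true := by decide +kernel

theorem stab_check : allFrom (fun n => force (maskL (spanL (repB n))) fun mR =>
    allFrom (fun r => force (mA r) fun m =>
      !((repB n).all fun x => mR.testBit (la m x)) || inL (stabL.getD n []) r) 0 7200) 0 9 = true := by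
  decide +kernel

/-- The map fixes the common part of two subgroups. -/
noncomputable def fixB (n s0 r : ℕ) : Bool :=
  force (mA r) fun m => (hitSubs.getD n []).any fun s1 => force (maskL (spanL (subB n s1))) fun m1 =>
    (spanL (subB n s0)).all fun x => !(m1.testBit x) || Nat.beq (la m x) x

theorem count_check : allFrom (fun n => (hitSubs.getD n []).all fun s0 =>
    Nat.blt ((spanL (repB n)).length * ((stabL.getD n []).filter (fixB n s0)).length) 960) 0 9 = true := by
  decide +kernel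

variable {G : Type*} [Group G] (S : Hyp G)

open Classical in
/-- The vectors of a subgroup. -/
noncomputable def Hyp.vlist (H : Subgroup S.X) : List ℕ :=
  (List.range 256).filter fun v => decide (S.phiE v ∈ H)

theorem Hyp.mem_vlist {H : Subgroup S.X} {v : ℕ} : v ∈ S.vlist H ↔ v < 256 ∧ S.phiE v ∈ H := by
  simp [Hyp.vlist]

theorem Hyp.mem_span {H : Subgroup S.X} {x : ℕ} :
    x ∈ spanL (S.vlist H) ↔ x < 256 ∧ S.phiE x ∈ H := by
  refine ⟨fun h => ⟨spanL_lt (fun v hv => (S.mem_vlist.1 hv).1) h, ?_⟩,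
    fun h => mem_spanL_self (S.mem_vlist.2 h)⟩
  refine spanL_sub (p := fun y => S.phiE y ∈ H) (by rw [S.phiE_zero]; exact one_mem H)
    (fun v hv y hy => ?_) x h
  rw [← S.phiE_mul]
  exact mul_mem hy (S.mem_vlist.1 hv).2

/-- The image of a subgroup under a map carrying `U` to a representative. -/
theorem Hyp.image_sub {U H : Subgroup S.X} (hH : H ≤ U) {i n : ℕ} (hn : n < 9)
    (h1 : ∀ x ∈ spanL (S.vlist U), la (mA i) x ∈ spanL (repB n)) :
    ∃ s < nSub n, ∀ x, x ∈ spanL (subB n s) ↔ ∃ y, y < 256 ∧ S.phiE y ∈ H ∧ la (mA i) y = x := by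
  obtain ⟨s, hs, hsx⟩ := sub_find hn ((S.vlist H).map (la (mA i))) (by
    intro v hv
    obtain ⟨y, hy, rfl⟩ := List.mem_map.1 hv
    obtain ⟨hy1, hy2⟩ := S.mem_vlist.1 hy
    exact h1 y (S.mem_span.2 ⟨hy1, hH hy2⟩))
  refine ⟨s, hs, fun x => ?_⟩
  rw [← hsx, mem_spanL_map]
  simp only [S.mem_span, and_assoc]

theorem Hyp.hit_image {H : Subgroup S.X} (hE : H ≤ S.EX) (hH : S.data.Hits H) {i : ℕ} (hi : i < nM)
    {l : List ℕ} (hl : ∀ y, y < 256 → S.phiE y ∈ H → la (mA i) y ∈ l) : hitV l = true := by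
  rw [hitV, List.all_eq_true]
  intro t ht
  obtain ⟨r, hr, hinv⟩ := inv_index hi
  have ht0 : la (mA r) t ∈ pList := P_map hr ht
  obtain ⟨e, heH, he1, hep, -⟩ := hH (S.phiE (la (mA r) t)) (S.mem_PX.2 ⟨_, ht0, rfl⟩)
  obtain ⟨y, hy, rfl⟩ := S.mem_EX.1 (hE heH)
  obtain ⟨w, hw, hwe⟩ := S.mem_PX.1 hep
  rw [S.phiE_mul] at hwe
  have hlt := Nat.xor_lt_two_pow (n := 8) hy (la_lt (mA r) t)
  have hwe' := S.phiE_inj hwe
  rw [Nat.mod_eq_of_lt hlt, Nat.mod_eq_of_lt (pList_mem hw).1] at hwe'
  refine List.any_eq_true.2 ⟨_, hl y hy heH, ?_⟩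
  rw [Bool.and_eq_true, Bool.not_eq_true', ← Bool.not_eq_true, Nat.beq_eq, pMask, testBit_maskL]
  refine ⟨fun e => he1 ?_, ?_⟩
  · rw [la_inj hi hy (by norm_num) (e.trans (la_zero _).symm), S.phiE_zero]
  · have := P_map hi (hwe' ▸ hw)
    rwa [la_xor, (hinv t).2, Nat.mod_eq_of_lt (pList_mem ht).1] at this

/-- The bound of the criterion. -/
theorem Hyp.bound [Finite G] (U H₀ J : Subgroup S.X) (hU : U ≤ S.EX) (h0 : H₀ ≤ U)
    (hJE : J ⊓ S.EX = U) (hav : ∀ u ∈ U, u ∉ S.PX) (hH : S.data.Hits H₀) :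
    (S.data.cands U H₀ ∩ J).ncard < 960 := by
  have := finite_RG
  classical
  obtain ⟨i, hi, j, hj, h1, h2⟩ := canon (S.vlist U) (fun v hv => (S.mem_vlist.1 hv).1) fun x hx hp =>
    hav _ (S.mem_span.1 hx).2 (S.mem_PX.2 ⟨x, hp, rfl⟩)
  obtain ⟨n, hn, rfl⟩ : ∃ n < 9, hitReps.getD n 0 = j := by
    have hc := (allFrom_iff _ _ _).1 hit_check j (Nat.zero_le _) (by omega)
    rw [S.hit_image (h0.trans hU) hH hi (l := spanL (reps.getD j [])) (fun y hy hyH =>
      h1 y (S.mem_span.2 ⟨hy, h0 hyH⟩)), Bool.not_true, Bool.false_or, List.any_eq_true] at hc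
    obtain ⟨n, hn, he⟩ := hc
    exact ⟨n, List.mem_range.1 hn, Nat.eq_of_beq_eq_true he⟩
  change ∀ x ∈ spanL (S.vlist U), la (mA i) x ∈ spanL (repB n) at h1
  change ∀ y ∈ spanL (repB n), ∃ x ∈ spanL (S.vlist U), la (mA i) x = y at h2
  obtain ⟨s0, hs0, hs0x⟩ := S.image_sub h0 hn h1
  have hhit : ∀ H : Subgroup S.X, H ≤ U → S.data.Hits H → ∀ s < nSub n,
      (∀ x, x ∈ spanL (subB n s) ↔ ∃ y, y < 256 ∧ S.phiE y ∈ H ∧ la (mA i) y = x) →
      s ∈ hitSubs.getD n [] := by
    intro H hHU hHh s hs hsx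
    have hc := (allFrom_iff _ _ _).1 ((allFrom_iff _ _ _).1 hitSubs_check n (Nat.zero_le _) (by omega)) s
      (Nat.zero_le _) (by omega)
    rw [S.hit_image (hHU.trans hU) hHh hi (l := spanL (subB n s)) (fun y hy hyH =>
      (hsx _).2 ⟨y, hy, hyH, rfl⟩), Bool.not_true, Bool.false_or, inL_iff] at hc
    exact hc
  obtain ⟨r', hr', hinv⟩ := inv_index hi
  have hcnt := List.all_eq_true.1 ((allFrom_iff _ _ _).1 count_check n (Nat.zero_le _) (by omega)) s0
    (hhit H₀ h0 hH s0 hs0 hs0x)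
  rw [Nat.blt_eq] at hcnt
  refine lt_of_le_of_lt ?_ hcnt
  -- the lifts and their maps
  have lift : ∀ k : ↥(S.data.cands U H₀ ∩ J : Set S.X), ∃ a < nM, ∃ l : KK, Act (l : RG) (mA a) ∧
      S.phi l = k := by
    rintro ⟨k, ⟨⟨l, rfl⟩, -, -⟩, -⟩
    obtain ⟨a, ha, hla⟩ := exists_index l.2
    exact ⟨a, ha, l, hla, rfl⟩
  choose a ha l hla hlk using lift
  have conjI : ∀ k, ∃ r < nM, ∀ v, la (mA r) v = la (mA i) (la (mA (a k)) (la (mA r') v)) := fun k => by
    obtain ⟨q, hq, hqe⟩ := comp_index hr' (ha k)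
    obtain ⟨r, hr, hre⟩ := comp_index hq hi
    exact ⟨r, hr, fun v => by rw [hre, hqe]⟩
  choose rc hrc hrce using conjI
  have hphi : ∀ k v, S.phiE (la (mA (a k)) v) =
      (k : S.X) * S.phiE v * (k : S.X)⁻¹ := fun k v => by rw [← hlk k, S.phiE_conj (hla k)]
  have memT : ∀ k, rc k ∈ (stabL.getD n []).filter (fixB n s0) := by
    intro k
    obtain ⟨-, hnorm, H₁, hH1U, hH1, hcomm⟩ := k.2.1
    have hmap : ∀ y, y < 256 → la (mA (rc k)) (la (mA i) y) = la (mA i) (la (mA (a k)) y) := fun y hy => by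
      rw [hrce, (hinv y).1, Nat.mod_eq_of_lt hy]
    refine List.mem_filter.2 ⟨?_, ?_⟩
    · have hc := (allFrom_iff _ _ _).1 stab_check n (Nat.zero_le _) (by omega)
      simp only [force_eq] at hc
      have hc' := (allFrom_iff _ _ _).1 hc (rc k) (Nat.zero_le _) (by have := hrc k; rw [nM] at this; omega)
      rw [List.all_eq_true.2 fun x hx => ?_, Bool.not_true, Bool.false_or, inL_iff] at hc'
      · exact hc'
      · rw [testBit_maskL]
        obtain ⟨y, hy, rfl⟩ := h2 x (mem_spanL_self hx)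
        obtain ⟨hy1, hy2⟩ := S.mem_span.1 hy
        rw [hmap y hy1]
        exact h1 _ (S.mem_span.2 ⟨la_lt _ _, by rw [hphi]; exact hnorm _ hy2⟩)
    · obtain ⟨s1, hs1, hs1x⟩ := S.image_sub hH1U hn h1
      rw [fixB, force_eq, List.any_eq_true]
      refine ⟨s1, hhit H₁ hH1U hH1 s1 hs1 hs1x, ?_⟩
      rw [force_eq, List.all_eq_true]
      intro x hx
      obtain ⟨y, hy, hyH, rfl⟩ := (hs0x x).1 hx
      rw [Bool.or_eq_true, Bool.not_eq_true', Nat.beq_eq]
      by_cases hm : (maskL (spanL (subB n s1))).testBit (la (mA i) y) = true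
      · right
        obtain ⟨y', hy', hyH', he⟩ := (hs1x _).1 (testBit_maskL.1 hm)
        obtain rfl := la_inj hi hy' hy he
        have e : S.phiE (la (mA (a k)) y') = S.phiE y' := by
          rw [hphi, (hcomm _ ⟨hyH, hyH'⟩).eq, mul_inv_cancel_right]
        have e' := S.phiE_inj e
        rw [Nat.mod_eq_of_lt (la_lt _ _), Nat.mod_eq_of_lt hy'] at e'
        rw [hmap y' hy', e']
      · left; simpa using hm
  -- the count
  haveI : Fintype ↥(S.data.cands U H₀ ∩ J : Set S.X) := Fintype.ofFinite _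
  rw [← Nat.card_coe_set_eq, Nat.card_eq_fintype_card, ← Finset.card_univ]
  have hfib : ∀ r ∈ (Finset.univ.image rc), (Finset.univ.filter fun k => rc k = r).card ≤
      (spanL (repB n)).toFinset.card := by
    intro r hr
    obtain ⟨k0, -, rfl⟩ := Finset.mem_image.1 hr
    have same : ∀ k, rc k = rc k0 → ∃ c, c < 256 ∧ S.phiE c ∈ U ∧ (k : S.X) = k0 * S.phiE c := by
      intro k hk
      have hak : a k = a k0 := by
        refine mA_inj (ha k) (ha k0) (map_eq (mA_lt _) (mA_lt _) fun v => ?_)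
        rw [← la_mod (mA (a k)), ← la_mod (mA (a k0))]
        have e := hrce k (la (mA i) v)
        rw [hk, hrce k0, (hinv v).1] at e
        exact (la_inj hi (la_lt _ _) (la_lt _ _) e).symm
      obtain ⟨p, hp, c, hc, hce⟩ := decomp (l k).2
      obtain ⟨p', hp', c', hc', hce'⟩ := decomp (l k0).2
      have act_dec : ∀ {q d : ℕ}, q < nM → Act (kOf q * el d) (mA q) := fun hq =>
        act_mul (kOf_spec hq).2 (act_el _) fun v => by rw [la_one, la_mod]
      obtain rfl := index_uniq (ha k) hp (hla k) (hce ▸ act_dec hp)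
      obtain rfl := index_uniq (ha k0) hp' (hla k0) (hce' ▸ act_dec hp')
      rw [← hak] at hce'
      refine ⟨(c' ^^^ c) % 256, Nat.mod_lt _ (by norm_num), ?_, ?_⟩
      all_goals
        have e : (k : S.X) = k0 * S.phiE ((c' ^^^ c) % 256) := by
          rw [S.phiE_congr (Nat.mod_mod _ 256), ← S.phiE_mul, ← mul_assoc, ← hlk k, ← hlk k0]
          have hK : ∀ (x : KK) (d : ℕ) (hd : (x : RG) = kOf (a k) * el d),
              S.phi x = S.phi ⟨kOf (a k), (kOf_spec (ha k)).1⟩ * S.phiE d := fun x d hd => by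
            rw [Hyp.phiE, ← map_mul]; exact congrArg S.phi (Subtype.ext hd)
          rw [hK _ c hce, hK _ c' hce', mul_assoc (S.phi ⟨kOf (a k), _⟩) (S.phiE c') (S.phiE c'),
            S.phiE_mul c' c', Nat.xor_self, S.phiE_zero, mul_one]
      · rw [← hJE]
        refine ⟨?_, S.mem_EX.2 ⟨_, Nat.mod_lt _ (by norm_num), rfl⟩⟩
        have hm := mul_mem (inv_mem k0.2.2) k.2.2
        rwa [e, inv_mul_cancel_left] at hm
      · exact e
    refine Finset.card_le_card_of_injOn (fun k => if h : rc k = rc k0 then la (mA i) (same k h).choose else 0)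
      (fun k hk => ?_) fun k hk k' hk' e => ?_
    · have h := (Finset.mem_filter.1 hk).2
      simp only [dif_pos h, Finset.mem_coe, List.mem_toFinset]
      obtain ⟨hc, hcU, -⟩ := (same k h).choose_spec
      exact h1 _ (S.mem_span.2 ⟨hc, hcU⟩)
    · have h := (Finset.mem_filter.1 hk).2
      have h' := (Finset.mem_filter.1 hk').2
      simp only [dif_pos h, dif_pos h'] at e
      obtain ⟨hc, -, hke⟩ := (same k h).choose_spec
      obtain ⟨hc', -, hke'⟩ := (same k' h').choose_spec
      exact Subtype.ext (by rw [hke, hke', la_inj hi hc hc' e])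
  refine (Finset.card_le_mul_card_image _ _ hfib).trans (Nat.mul_le_mul (List.toFinset_card_le _) ?_)
  refine le_trans (Finset.card_le_card fun r hr => ?_) (List.toFinset_card_le _)
  obtain ⟨k, -, rfl⟩ := Finset.mem_image.1 hr
  exact List.mem_toFinset.2 (memT k)

/-- The subgroup is the centraliser modulo `b`. -/
theorem Hyp.phi_range [Finite G] : S.phi.range = ⊤ :=
  S.data.eq_top fun U H₀ J hU h0 _ hJE hav hH =>
    lt_of_lt_of_le (S.bound U H₀ J hU h0 hJE hav hH) S.card_AX

end Cfsg.Agent.HNRec.Global
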