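import Cfsg.Agent.HNRec.Global.K0

/-!
The involutions of the normaliser of the extraspecial group, up to conjugacy.
-/

set_option autoImplicit false
set_option maxRecDepth 100000

namespace Cfsg.Agent.HNRec.Global

open Cfsg.Agent.CosetCert Data

/-- The representative with both kinds of lifts. -/
noncomputable def aR : RG := W aW

/-- The representative of the other outer class. -/
noncomputable def yR : RG := W yW

/-- A fixed-point-free element squaring to `b`. -/
noncomputable def rR : RG := W (rW.getD 0 []) * sE * W (rW.getD 1 []) * sE * W (rW.getD 2 [])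

/-- The representatives of the three classes of maps. -/
noncomputable def repR (c : ℕ) : RG := cond (Nat.beq c 0) aR (cond (Nat.beq c 1) yR rR)

/-- Conjugate in the presented group to the central involution of the model. -/
def TCl (x : RG) : Prop := ∃ g, x = g * tR * g⁻¹

/-- Conjugate to `b`. -/
def BCl (x : RG) : Prop := ∃ g, x = g * bR * g⁻¹

theorem TCl.conj {x : RG} (h : TCl x) (g : RG) : TCl (g * x * g⁻¹) := by
  obtain ⟨c, rfl⟩ := h; exact ⟨g * c, by group⟩

theorem BCl.conj {x : RG} (h : BCl x) (g : RG) : BCl (g * x * g⁻¹) := by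
  obtain ⟨c, rfl⟩ := h; exact ⟨g * c, by group⟩

theorem TCl.of_conj {x g : RG} (h : TCl (g * x * g⁻¹)) : TCl x := by
  have := h.conj g⁻¹
  rwa [show g⁻¹ * (g * x * g⁻¹) * g⁻¹⁻¹ = x by group] at this

theorem BCl.of_conj {x g : RG} (h : BCl (g * x * g⁻¹)) : BCl x := by
  have := h.conj g⁻¹
  rwa [show g⁻¹ * (g * x * g⁻¹) * g⁻¹⁻¹ = x by group] at this

theorem cent_le_KK : Subgroup.centralizer {tR} ⊓ Subgroup.centralizer {bR} ≤ KK := by
  have := finite_RG
  set C : Subgroup RG := Subgroup.centralizer {tR} ⊓ Subgroup.centralizer {bR}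
  let S : Subgroup KK := (Subgroup.centralizer {tR}).subgroupOf KK
  have hS : 30720 ≤ Nat.card S := by
    have e := Subgroup.card_mul_index S
    rw [card_KK] at e
    have hidx : S.index ≤ 120 := index_cent_le
    nlinarith [e, hidx]
  have h1 : Nat.card ↥(KK ⊓ C) = Nat.card C := by
    refine le_antisymm (Subgroup.card_le_of_le inf_le_right) ?_
    refine card_cent_le.2.trans (hS.trans ?_)
    refine Nat.card_le_card_of_injective (fun x => ⟨((x : KK) : RG), (x : KK).2,
      Subgroup.mem_subgroupOf.1 x.2,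
      Subgroup.mem_centralizer_singleton_iff.2 (KK_b (x : KK).2)⟩) ?_
    intro x y e
    exact Subtype.ext (Subtype.ext (congrArg Subtype.val e : _))
  intro x hx
  have := (Subgroup.eq_of_le_of_card_ge inf_le_right h1.ge) ▸ hx
  exact this.1

theorem iH_comm_t (a : HGroup) : iH a * tR = tR * iH a := by
  have := congrArg iH (tH_comm a)
  rw [map_mul, map_mul] at this
  exact this.symm

/-- Words of the model commuting with `b` lie in the subgroup. -/
theorem W_mem {w : List ℕ} (h : sameW (w ++ bW) (bW ++ w) = true) : W w ∈ KK := by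
  refine cent_le_KK ⟨Subgroup.mem_centralizer_singleton_iff.2 (iH_comm_t _),
    Subgroup.mem_centralizer_singleton_iff.2 ?_⟩
  rw [bR, ← W_append, ← W_append]
  exact W_same h

/-- The map of a word of the model, checked on seven generators. -/
noncomputable def mapB (w : List ℕ) (idx : ℕ) : Bool :=
  sameW (w ++ bW) (bW ++ w) && Nat.blt idx 7200 &&
  ((List.range 7).all fun i => force (la (mA idx) (2 ^ i)) fun v => Nat.blt v 128 &&
    (sameW (w ++ eW.getD i []) (Hw v ++ w) || sameW (w ++ eW.getD i []) (Hw (v ^^^ 256) ++ w))) &&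
  allFrom (fun k => force (mA k) fun m => force (mA idx) fun m' =>
    !((List.range 7).all fun i => Nat.beq (la m (2 ^ i)) (la m' (2 ^ i))) || Nat.beq k idx) 0 7200

theorem mapB_spec {w : List ℕ} {idx : ℕ} (h : mapB w idx = true) :
    W w ∈ KK ∧ idx < nM ∧ Act (W w) (mA idx) := by
  simp only [mapB, Bool.and_eq_true] at h
  obtain ⟨⟨⟨hb, hidx⟩, himg⟩, huniq⟩ := h
  have hidx' : idx < nM := by rw [nM]; exact Nat.blt_eq.mp hidx
  have hk := W_mem hb
  obtain ⟨i, hi, ha⟩ := exists_index hk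
  refine ⟨hk, hidx', ?_⟩
  have e : ∀ j < 7, la (mA i) (2 ^ j) = la (mA idx) (2 ^ j) := by
    intro j hj
    have hh := List.all_eq_true.1 himg j (List.mem_range.2 hj)
    simp only [force_eq, Bool.and_eq_true, Bool.or_eq_true, Nat.blt_eq] at hh
    obtain ⟨hv, hs⟩ := hh
    set v := la (mA idx) (2 ^ j)
    have h7 : v.testBit 7 = false := Nat.testBit_lt_two_pow (by norm_num; omega)
    have h7' : (v ^^^ 256).testBit 7 = false := by
      rw [Nat.testBit_xor, h7, testBit_256 (by norm_num)]; rfl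
    obtain ⟨d, hd, hl⟩ := ha (2 ^ j)
    have hlv : v % 256 = v := Nat.mod_eq_of_lt (la_lt _ _)
    have hlo : (v ^^^ 256) % 256 = v % 256 := mod_256_eq fun i hi => by
      rw [Nat.testBit_xor, testBit_256 hi, Bool.xor_false]
    rw [← hl, ← hlv]
    rw [el, holds.elt_two_pow (by omega), eR_low hj, mul_inv_eq_iff_eq_mul, ← W_append] at hd
    rcases hs with hs | hs
    · rw [W_same hs, W_append, ← el_low h7] at hd
      exact el_low_inj (mul_right_cancel hd).symm
    · rw [W_same hs, W_append, ← el_low h7'] at hd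
      rw [← hlo]
      exact el_low_inj (mul_right_cancel hd).symm
  have hu := (allFrom_iff _ _ _).1 huniq i (Nat.zero_le _) (by rw [nM] at hi; omega)
  simp only [force_eq, Bool.or_eq_true, Bool.not_eq_true'] at hu
  rcases hu with hu | hu
  · refine absurd hu ?_
    rw [Bool.not_eq_false]
    exact List.all_eq_true.2 fun j hj => by rw [Nat.beq_eq]; exact e j (List.mem_range.1 hj)
  · rwa [← Nat.eq_of_beq_eq_true hu]

theorem rR_check : mapB (rW.getD 0 []) (segIdx.getD 0 0) = true ∧
    mapB (rW.getD 1 []) (segIdx.getD 1 0) = true ∧ mapB (rW.getD 2 []) (segIdx.getD 2 0) = true ∧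
    mapB aW (clsIdx.getD 0 0) = true ∧ mapB yW (clsIdx.getD 1 0) = true := by
  refine ⟨?_, ?_, ?_, ?_, ?_⟩ <;> decide +kernel

theorem rR_compose : allFrom (fun j => force (Nat.pow 2 j) fun e => Nat.beq (la (clsM 2) e)
    (la (mA (segIdx.getD 0 0)) (la (gM 0) (la (mA (segIdx.getD 1 0))
      (la (gM 0) (la (mA (segIdx.getD 2 0)) e)))))) 0 8 = true := by decide +kernel

theorem repR_spec {c : ℕ} (hc : c < 3) :
    repR c ∈ KK ∧ Act (repR c) (clsM c) ∧
      (c < 2 → repR c * repR c = 1) ∧ (c = 2 → repR c * repR c = bR) := by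
  obtain ⟨h0, h1, h2, ha, hy⟩ := rR_check
  interval_cases c
  · obtain ⟨h, -, h'⟩ := mapB_spec ha
    refine ⟨h, h', fun _ => ?_, fun h => absurd h (by norm_num)⟩
    show W aW * W aW = 1
    rw [← W_append, ← W_nil]; exact W_same (by decide +kernel)
  · obtain ⟨h, -, h'⟩ := mapB_spec hy
    refine ⟨h, h', fun _ => ?_, fun h => absurd h (by norm_num)⟩
    show W yW * W yW = 1
    rw [← W_append, ← W_nil]; exact W_same (by decide +kernel)
  · obtain ⟨k0, -, a0⟩ := mapB_spec h0
    obtain ⟨k1, -, a1⟩ := mapB_spec h1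
    obtain ⟨k2, -, a2⟩ := mapB_spec h2
    have hs : Act sE (gM 0) := act_gen (g := 0) (by norm_num)
    have hsm : sE ∈ KK := gen3_mem (g := 0) (by norm_num)
    refine ⟨mul_mem (mul_mem (mul_mem (mul_mem k0 hsm) k1) hsm) k2, ?_, fun h => absurd h (by norm_num), fun _ => ?_⟩
    · intro v
      obtain ⟨d2, e2, l2⟩ := a2 v
      obtain ⟨d3, e3, l3⟩ := hs d2
      obtain ⟨d4, e4, l4⟩ := a1 d3
      obtain ⟨d5, e5, l5⟩ := hs d4
      obtain ⟨d6, e6, l6⟩ := a0 d5
      refine ⟨d6, ?_, ?_⟩
      · show rR * el v * rR⁻¹ = el d6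
        rw [← e6, ← e5, ← e4, ← e3, ← e2, rR]
        group
      · rw [l6, ← la_mod _ d5, l5, ← la_mod _ d4, l4, ← la_mod _ d3, l3, ← la_mod _ d2, l2]
        simp only [la_mod]
        rw [← la_mod (clsM 2) v]
        conv_lhs => rw [← la_mod (mA (segIdx.getD 2 0)) v]
        refine (lin_ext (la_xor _) (fun a c => by simp only [la_xor]) (fun j hj => ?_) _
          (Nat.mod_lt _ (by norm_num))).symm
        have := (allFrom_iff _ _ _).1 rR_compose j (Nat.zero_le _) (by omega)
        rw [force_eq] at this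
        exact Nat.eq_of_beq_eq_true this
    · show rR * rR = bR
      have h := ev9_one (w := rel8) (by decide +kernel) rel8_ok
      rw [show rel8 = cvW (rW.getD 0 []) ++ [8] ++ cvW (rW.getD 1 []) ++ [8] ++ cvW (rW.getD 2 []) ++
          cvW (rW.getD 0 []) ++ [8] ++ cvW (rW.getD 1 []) ++ [8] ++ cvW (rW.getD 2 []) ++ cvW bW
          by decide +kernel] at h
      simp only [ev9_append, ev9_s, ev9_cvW (w := rW.getD 0 []) (by decide +kernel),
        ev9_cvW (w := rW.getD 1 []) (by decide +kernel), ev9_cvW (w := rW.getD 2 []) (by decide +kernel),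
        ev9_cvW (w := bW) (by decide +kernel)] at h
      have h' : rR * rR * bR = 1 := by rw [← h, rR, bR]; simp only [W, mul_assoc]; rfl
      rw [eq_inv_of_mul_eq_one_left h', inv_eq_of_mul_eq_one_right bR_sq]

theorem W_conj {h u v : List ℕ} (e : sameW (h ++ u) (v ++ h) = true) : W h * W u * (W h)⁻¹ = W v := by
  rw [mul_inv_eq_iff_eq_mul, ← W_append, ← W_append]
  exact W_same e

theorem el_split (d : ℕ) : el d = el (d % 256) * cond (d.testBit 8) bR 1 := by
  have h : valN eR (d % 256) 8 = valN eR d 8 := valN_congr eR fun i hi => by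
    simp [show (256 : ℕ) = 2 ^ 8 from rfl, Nat.testBit_mod_two_pow, hi]
  rw [el, elt, elt, h, show (d % 256).testBit 8 = false from
    Nat.testBit_lt_two_pow (Nat.mod_lt _ (by norm_num)), cond_false, mul_one]

theorem el_cases (d : ℕ) : el d = el (d % 256) ∨ el d = el (d % 256) * bR := by
  rw [el_split]
  cases d.testBit 8
  exacts [Or.inl (mul_one _), Or.inr rfl]

theorem small_checks :
    sameW (wb33 ++ bW) (Hw r33 ++ wb33) = true ∧ sameW (wb33b ++ bW) (Hw r33 ++ bW ++ wb33b) = true ∧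
    sameW (wy44 ++ yW) (Hw r44 ++ wy44) = true ∧ sameW (wy44b ++ yW) (Hw r44 ++ bW ++ wy44b) = true ∧
    sameW (wyb ++ yW) (yW ++ bW ++ wyb) = true ∧ sameW (wab ++ yW) (aW ++ bW ++ wab) = true ∧
    sameW (hzW ++ [4]) (aW ++ hzW) = true ∧ r33.testBit 7 = false ∧ r44.testBit 7 = false := by
  refine ⟨?_, ?_, ?_, ?_, ?_, ?_, ?_, ?_, ?_⟩ <;> decide +kernel

theorem BCl_r33 {d : ℕ} (h : d % 256 = r33) : BCl (el d) := by
  obtain ⟨h1, h2, -, -, -, -, -, h7, -⟩ := small_checks
  rcases el_cases d with e | e <;> rw [e, h, el_low h7]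
  · exact ⟨W wb33, (W_conj h1).symm⟩
  · rw [bR, ← W_append]; exact ⟨W wb33b, (W_conj h2).symm⟩

theorem r44_index : allFrom (fun i => !(Nat.beq (la (mA i) r33) r44)) 0 7200 = false := by decide +kernel

theorem BCl_yR : BCl yR := by
  obtain ⟨-, -, h1, h2, -, -, -, -, h7⟩ := small_checks
  have hne : ¬ ∀ i, 0 ≤ i → i < 0 + 7200 → (!(Nat.beq (la (mA i) r33) r44)) = true := by
    rw [← allFrom_iff (fun i => !(Nat.beq (la (mA i) r33) r44)) 0 7200, r44_index]; exact Bool.false_ne_true
  push Not at hne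
  obtain ⟨i, -, hi, he⟩ := hne
  rw [Bool.not_eq_true, Bool.not_eq_false'] at he
  have hi' : i < nM := by rw [nM]; omega
  obtain ⟨d, hd, hl⟩ := (kOf_spec hi').2 r33
  rw [Nat.eq_of_beq_eq_true he] at hl
  have hb : BCl (el d) := hd ▸ (BCl_r33 (show r33 % 256 = r33 by decide +kernel)).conj _
  rcases el_cases d with e | e <;> rw [e, hl, el_low h7] at hb
  · rw [← W_conj h1] at hb; exact hb.of_conj
  · rw [bR, ← W_append, ← W_conj h2] at hb; exact hb.of_conj

theorem BCl_yb : BCl (yR * bR) := by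
  rw [yR, bR, ← W_append, ← W_conj small_checks.2.2.2.2.1]
  exact BCl_yR.conj _

theorem BCl_ab : BCl (aR * bR) := by
  rw [aR, bR, ← W_append, ← W_conj small_checks.2.2.2.2.2.1]
  exact BCl_yR.conj _

theorem zR_eq : sE * tR * sE = W [4] := by
  have h := sd_all 1 (by norm_num)
  rwa [show dW.getD 1 [] = [0, 0] from rfl, show sdW.getD 1 [] = [4] from rfl] at h

theorem aR_eq : aR = (W hzW * sE) * tR * (W hzW * sE)⁻¹ := by
  rw [mul_inv_rev, sE_inv,
    show W hzW * sE * tR * (sE * (W hzW)⁻¹) = W hzW * (sE * tR * sE) * (W hzW)⁻¹ by group, zR_eq]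
  exact (W_conj small_checks.2.2.2.2.2.2.1).symm

theorem TCl_aR : TCl aR := ⟨_, aR_eq⟩

/-- The elements of the first kind. -/
def PR : Set RG := {y | ∃ d, y = el d ∧ d % 256 ∈ pList}

/-- The conjugates of the lifts of the mixed class. -/
def AR : Set RG := {y | ∃ k ∈ KK, y = k * aR * k⁻¹ ∨ y = k * (aR * bR) * k⁻¹}

theorem p_index : pList.all (fun v => !(allFrom (fun i => !(Nat.beq (la (mA i) 2) v)) 0 7200)) = true := by
  decide +kernel

theorem r_index : rList.all (fun v => !(allFrom (fun i => !(Nat.beq (la (mA i) v) r33)) 0 7200)) = true := by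
  decide +kernel

theorem PR_orbit {d : ℕ} (h : d % 256 ∈ pList) :
    ∃ k ∈ KK, k * tR * k⁻¹ = el d ∨ k * tR * k⁻¹ = el d * bR := by
  have hh := List.all_eq_true.1 p_index _ h
  have hne : ¬ ∀ i, 0 ≤ i → i < 0 + 7200 → (!(Nat.beq (la (mA i) 2) (d % 256))) = true := by
    rw [← allFrom_iff (fun i => !(Nat.beq (la (mA i) 2) (d % 256))) 0 7200]
    simpa using hh
  push Not at hne
  obtain ⟨i, -, hi, he⟩ := hne
  rw [Bool.not_eq_true, Bool.not_eq_false'] at he
  have hi' : i < nM := by rw [nM]; omega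
  obtain ⟨hk, ha⟩ := kOf_spec hi'
  obtain ⟨e, hd, hl⟩ := ha 2
  rw [Nat.eq_of_beq_eq_true he] at hl
  refine ⟨_, hk, ?_⟩
  rw [tR_eq, hd, el_split e, el_split d, hl, mul_assoc]
  cases e.testBit 8 <;> cases d.testBit 8 <;> simp [bR_sq]

theorem e_check : allFrom (fun c => force (mulC FF c c) fun q => !(Nat.beq q 0) ||
    (Nat.beq (c % 256) 0 || inL pList (c % 256) || inL rList (c % 256))) 0 512 = true := by decide +kernel

theorem fix_check : allFrom (fun c => force (clsM c) fun m => allFrom (fun v =>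
    !(Nat.beq (la m v) v) || !(allFrom (fun f => !(Nat.beq (f ^^^ la m f) v)) 0 256)) 0 256) 0 3 = true := by
  decide +kernel

theorem la_comp_sq {k : RG} {m : ℕ} (h : Act k m) (hk : k * k = 1) (v : ℕ) : la m (la m v) = v % 256 := by
  obtain ⟨d, hd, hl⟩ := h v
  obtain ⟨d', hd', hl'⟩ := h d
  rw [← hl, la_mod, ← hl']
  apply el_low_inj
  rw [← hd', ← hd, show k * (k * el v * k⁻¹) * k⁻¹ = (k * k) * el v * (k * k)⁻¹ by group, hk]
  group

/-- An involution acting as a representative is conjugate to a lift of it. -/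
theorem invol_rep {y1 : RG} (hy1k : y1 ∈ KK) (hy12 : y1 * y1 = 1) {c : ℕ} (hc : c < 3)
    (hy1a : Act y1 (clsM c)) :
    ∃ g ∈ KK, g * y1 * g⁻¹ = repR c ∨ g * y1 * g⁻¹ = repR c * bR := by
  obtain ⟨hr, hra, hr01, hr2⟩ := repR_spec hc
  set r := repR c
  set m := clsM c
  -- the part in the extraspecial group
  have hsq := la_comp_sq hy1a hy12
  obtain ⟨d, -, hd⟩ := kernel_el (mul_mem hy1k hr)
    (act_mul hy1a hra fun v => by rw [la_one, hsq])
  have hrr : r * r = 1 ∨ r * r = bR := by
    rcases (by omega : c < 2 ∨ c = 2) with h | h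
    exacts [Or.inl (hr01 h), Or.inr (hr2 h)]
  obtain ⟨d', hy1e⟩ : ∃ d', y1 = el d' * r := by
    rcases hrr with h | h
    · exact ⟨d, by rw [← hd, mul_assoc, h, mul_one]⟩
    · exact ⟨d ^^^ 256, by rw [el, holds.elt_xor_256, show elt eR bR d = y1 * r from hd.symm,
        mul_assoc (y1 * r), mul_assoc y1, ← mul_assoc r bR, ← KK_b hr, mul_assoc r bR r,
        ← mul_assoc r, KK_b hr, mul_assoc bR, h, bR_sq, mul_one]⟩
  obtain ⟨d1, e1, l1⟩ := hra d'
  have hfix : la m (d' % 256) = d' % 256 := by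
    have h1 : el (mulC FF d' d1) * (r * r) = 1 := by
      rw [el, holds.elt_mulC, show elt eR bR d1 = r * el d' * r⁻¹ from e1.symm, ← hy12, hy1e]
      simp only [el, mul_assoc, inv_mul_cancel_left]
    have h3 : el (mulC FF d' d1) = el 0 ∨ el (mulC FF d' d1) = el (0 ^^^ 256) := by
      rcases hrr with h | h <;> rw [h] at h1
      · left; rw [mul_one] at h1; rw [h1]; exact elt_zero.symm
      · right
        rw [el, holds.elt_xor_256, elt_zero, one_mul,
          show elt eR bR (mulC FF d' d1) = el (mulC FF d' d1) from rfl, eq_inv_of_mul_eq_one_left h1,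
          inv_eq_of_mul_eq_one_right bR_sq]
    have hz : mulC FF d' d1 % 256 = 0 := by
      rcases h3 with h | h
      · exact el_low_inj h
      · exact (el_low_inj h).trans (by decide +kernel)
    rw [mulC_low] at hz
    rw [la_mod, ← l1]
    refine mod_256_eq fun i hi => ?_
    have := congrArg (Nat.testBit · i) hz
    simpa [show (256 : ℕ) = 2 ^ 8 from rfl, Nat.testBit_mod_two_pow, hi, eq_comm] using this
  -- conjugation into the representative
  have hf := (allFrom_iff _ _ _).1 fix_check c (Nat.zero_le _) (by omega)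
  rw [force_eq] at hf
  have hf' := (allFrom_iff _ _ _).1 hf (d' % 256) (Nat.zero_le _)
    (by have := Nat.mod_lt d' (show 256 > 0 by norm_num); omega)
  rw [show clsM c = m from rfl, hfix, Nat.beq_refl, Bool.not_true, Bool.false_or] at hf'
  have hne : ¬ ∀ f, 0 ≤ f → f < 0 + 256 → (!(Nat.beq (f ^^^ la m f) (d' % 256))) = true := by
    rw [← allFrom_iff (fun f => !(Nat.beq (f ^^^ la m f) (d' % 256))) 0 256]
    simpa using hf'
  push Not at hne
  obtain ⟨f, -, hf256, hfe⟩ := hne
  rw [Bool.not_eq_true, Bool.not_eq_false'] at hfe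
  have hfe' := Nat.eq_of_beq_eq_true hfe
  obtain ⟨f', hfi, hfl⟩ := el_inv f
  obtain ⟨d2, e2, l2⟩ := hra f'
  have hy2 : el f * y1 * (el f)⁻¹ = el (mulC FF (mulC FF f d') d2) * r := by
    rw [hy1e, el, el, el, holds.elt_mulC, holds.elt_mulC, show elt eR bR d2 = r * el f' * r⁻¹ from e2.symm]
    rw [show (elt eR bR f)⁻¹ = el f' from hfi]
    simp only [el, mul_assoc, inv_mul_cancel_left, inv_mul_cancel, mul_one]
  have hz : mulC FF (mulC FF f d') d2 % 256 = 0 := by
    rw [mulC_low]
    have hb1 : d2 % 256 = la m f % 256 := by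
      rw [l2, ← la_mod m f', hfl, la_mod, Nat.mod_eq_of_lt (la_lt _ _)]
    rw [show (0 : ℕ) = 0 % 256 from rfl]
    refine mod_256_eq fun i hi => ?_
    have h1 := congrArg (Nat.testBit · i) (mulC_low FF f d')
    have h2 := congrArg (Nat.testBit · i) hb1
    have h3 := congrArg (Nat.testBit · i) hfe'
    simp only [show (256 : ℕ) = 2 ^ 8 from rfl, Nat.testBit_mod_two_pow, hi, decide_true, Bool.true_and,
      Nat.testBit_xor] at h1 h2 h3
    rw [Nat.testBit_xor, h1, h2, Nat.zero_testBit]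
    revert h3
    cases f.testBit i <;> cases d'.testBit i <;> cases (la m f).testBit i <;> simp
  have hy2' : el f * y1 * (el f)⁻¹ = r ∨ el f * y1 * (el f)⁻¹ = r * bR := by
    rw [hy2, el_sign hz]
    cases (mulC FF (mulC FF f d') d2).testBit 8
    · exact Or.inl (one_mul _)
    · exact Or.inr (KK_b hr).symm
  exact ⟨el f, el_mem f, hy2'⟩

/-- The involutions of the subgroup. -/
theorem invol_cases {y : RG} (hy : y ∈ KK) (h2 : y * y = 1) :
    y = 1 ∨ y ∈ PR ∨ y ∈ AR ∨ BCl y := by
  have := finite_RG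
  obtain ⟨i, hi, ha⟩ := exists_index hy
  by_cases h0 : i = 0
  · subst h0
    obtain ⟨c, hc, rfl⟩ := kernel_el hy ha
    have hq : mulC FF c c = 0 := el_inj (mulC_lt hc) (by norm_num)
      ((holds.elt_mulC c c).trans (h2.trans elt_zero.symm))
    have := (allFrom_iff _ _ _).1 e_check c (Nat.zero_le _) (by omega)
    rw [force_eq, hq] at this
    simp only [Nat.beq_refl, Bool.not_true, Bool.false_or, Bool.or_eq_true, Nat.beq_eq, inL_iff] at this
    rcases this with (hz | hp) | hr
    · rw [el_sign hz]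
      cases c.testBit 8
      · exact Or.inl rfl
      · exact Or.inr (Or.inr (Or.inr ⟨1, by simp⟩))
    · exact Or.inr (Or.inl ⟨c, rfl, hp⟩)
    · refine Or.inr (Or.inr (Or.inr ?_))
      have hh := List.all_eq_true.1 r_index _ hr
      have hne : ¬ ∀ i, 0 ≤ i → i < 0 + 7200 → (!(Nat.beq (la (mA i) (c % 256)) r33)) = true := by
        rw [← allFrom_iff (fun i => !(Nat.beq (la (mA i) (c % 256)) r33)) 0 7200]
        simpa using hh
      push Not at hne
      obtain ⟨j, -, hj, he⟩ := hne
      rw [Bool.not_eq_true, Bool.not_eq_false'] at he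
      have hj' : j < nM := by rw [nM]; omega
      obtain ⟨d, hd, hl⟩ := (kOf_spec hj').2 c
      rw [← la_mod, Nat.eq_of_beq_eq_true he] at hl
      exact (hd ▸ BCl_r33 hl : BCl (kOf j * el c * (kOf j)⁻¹)).of_conj
  · obtain ⟨j, hj, c, hc, hjc⟩ := invol_class h0 hi (la_comp_sq ha h2)
    obtain ⟨hk, hka⟩ := kOf_spec hj
    set k := kOf j
    obtain ⟨hr, hra, hr01, hr2⟩ := repR_spec hc
    set r := repR c
    set m := clsM c
    -- the conjugate
    set y1 := k * y * k⁻¹ with hy1
    have hy1k : y1 ∈ KK := mul_mem (mul_mem hk hy) (inv_mem hk)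
    have hy12 : y1 * y1 = 1 := by
      rw [hy1, show k * y * k⁻¹ * (k * y * k⁻¹) = k * (y * y) * k⁻¹ by group, h2]; group
    have hy1a : Act y1 m := by
      intro v
      obtain ⟨l, hl, hla⟩ := exists_index (inv_mem hk)
      obtain ⟨d1, e1, l1⟩ := hla v
      obtain ⟨d2, e2, l2⟩ := ha d1
      obtain ⟨d3, e3, l3⟩ := hka d2
      refine ⟨d3, by rw [hy1, ← e3, ← e2, ← e1]; group, ?_⟩
      rw [l3, ← la_mod (mA j) d2, l2, la_mod, ← la_mod (mA i) d1, l1, la_mod, hjc]
      obtain ⟨d4, e4, l4⟩ := hka d1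
      have hd4 : el d4 = el v := by rw [← e4, ← e1]; group
      rw [← la_mod (mA j) d1, l1] at l4
      rw [← l4, el_low_inj hd4, la_mod]
    obtain ⟨gf, hgfk, hy2'⟩ := invol_rep hy1k hy12 hc hy1a
    set g := gf * k with hg
    have hgk : g ∈ KK := mul_mem hgfk hk
    have hgy : g * y * g⁻¹ = gf * y1 * gf⁻¹ := by rw [hg, hy1]; group
    rw [← hgy] at hy2'
    rcases (by omega : c = 0 ∨ c = 1 ∨ c = 2) with rfl | rfl | rfl
    · refine Or.inr (Or.inr (Or.inl ⟨g⁻¹, inv_mem hgk, ?_⟩))
      rcases hy2' with h | h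
      · left; rw [show aR = g * y * g⁻¹ from h.symm]; group
      · right; rw [show aR * bR = g * y * g⁻¹ from h.symm]; group
    · refine Or.inr (Or.inr (Or.inr ?_))
      have hb : BCl (g * y * g⁻¹) := by
        rcases hy2' with h | h <;> rw [h]
        exacts [BCl_yR, BCl_yb]
      exact hb.of_conj
    · exfalso
      have h1 : (g * y * g⁻¹) * (g * y * g⁻¹) = 1 := by
        rw [show g * y * g⁻¹ * (g * y * g⁻¹) = g * (y * y) * g⁻¹ by group, h2]; group
      have hb : r * r = bR := hr2 rfl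
      rcases hy2' with h | h <;> rw [h] at h1
      · exact bR_ne (hb.symm.trans h1)
      · rw [mul_assoc r bR, ← mul_assoc bR r, ← KK_b hr, mul_assoc r bR bR, bR_sq, mul_one, hb] at h1
        exact bR_ne h1

end Cfsg.Agent.HNRec.Global
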