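import Mathlib

/-!
Normal forms in a group generated by eight elements with squares and commutators in a central
subgroup of order two: a code below 512 stands for a product.
-/

set_option autoImplicit false

namespace Cfsg.Agent.HNRec.Global

/-- The relations: squares and commutators. -/
structure Forms where
  q : ℕ → Bool
  c : ℕ → ℕ → Bool

variable (F : Forms)

/-- The sign picked up by the `j`-th generator moved into the first `n` factors of `v`. -/
noncomputable def sgn (v j : ℕ) : ℕ → Bool :=
  fun n => Nat.rec false
    (fun n r => cond (Nat.beq n j) (v.testBit n && F.q j)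
      (xor r (Nat.blt j n && (v.testBit n && F.c n j)))) n

/-- Right multiplication by a generator. -/
noncomputable def stepC (a j : ℕ) : ℕ :=
  cond (sgn F a j 8) (a ^^^ 2 ^ j ^^^ 256) (a ^^^ 2 ^ j)

/-- The product of two codes. -/
noncomputable def mulC (a c : ℕ) : ℕ :=
  Nat.rec (motive := fun _ => ℕ) a (fun j r => cond (c.testBit j) (stepC F r j) r) 8 ^^^
    cond (c.testBit 8) 256 0

/-- The image of a code from the images of the generators. -/
noncomputable def actC (img : ℕ → ℕ) (v : ℕ) : ℕ :=
  Nat.rec (motive := fun _ => ℕ) 0 (fun j r => cond (v.testBit j) (mulC F r (img j)) r) 8 ^^^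
    cond (v.testBit 8) 256 0

/-- A linear map, packed as eight bytes, at a vector. -/
noncomputable def la (m v : ℕ) : ℕ :=
  Nat.rec (motive := fun _ => ℕ) 0
    (fun j r => cond (v.testBit j) (r ^^^ (Nat.shiftRight m (Nat.mul 8 j) % 256)) r) 8

variable {G : Type*} [Group G] (e : ℕ → G) (b : G)

/-- The relations hold. -/
structure Forms.Holds : Prop where
  b_sq : b * b = 1
  b_comm : ∀ i < 8, e i * b = b * e i
  sq : ∀ i < 8, e i * e i = cond (F.q i) b 1
  comm : ∀ i < 8, ∀ j < i, e i * e j = e j * e i * cond (F.c i j) b 1

/-- The product of the first `n` factors. -/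
def valN (v : ℕ) : ℕ → G
  | 0 => 1
  | n + 1 => valN v n * cond (v.testBit n) (e n) 1

/-- The element of a code. -/
def elt (v : ℕ) : G := valN e v 8 * cond (v.testBit 8) b 1

theorem valN_congr {v w : ℕ} : ∀ {n : ℕ}, (∀ i < n, v.testBit i = w.testBit i) → valN e v n = valN e w n
  | 0, _ => rfl
  | n + 1, h => by rw [valN, valN, valN_congr fun i hi => h i (hi.trans n.lt_succ_self), h n n.lt_succ_self]

theorem testBit_flip (v j i : ℕ) : (v ^^^ 2 ^ j).testBit i = xor (v.testBit i) (decide (j = i)) := by
  rw [Nat.testBit_xor, Nat.testBit_two_pow]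

theorem testBit_256 {i : ℕ} (h : i < 8) : Nat.testBit 256 i = false := by
  interval_cases i <;> decide

namespace Forms.Holds

variable {F e b}
variable (h : F.Holds e b)
include h

theorem cond_mul (x y : Bool) : cond x b 1 * cond y b 1 = cond (xor x y) b 1 := by
  cases x <;> cases y <;> simp [h.b_sq]

theorem comm_cond (x : Bool) {i : ℕ} (hi : i < 8) : cond x b 1 * e i = e i * cond x b 1 := by
  cases x
  · simp
  · exact (h.b_comm i hi).symm

theorem valN_mul_gen {v j : ℕ} (hj : j < 8) : ∀ n, n ≤ 8 →
    valN e v n * e j = if j < n then valN e (v ^^^ 2 ^ j) n * cond (sgn F v j n) b 1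
      else valN e v n * e j := by
  intro n
  induction n with
  | zero => intro; simp
  | succ n ih =>
    intro hn
    by_cases hjn : j < n + 1
    · rw [if_pos hjn]
      rcases Nat.lt_succ_iff_lt_or_eq.1 hjn with hlt | rfl
      · have h1 := ih (by omega)
        rw [if_pos hlt] at h1
        have hb : (v ^^^ 2 ^ j).testBit n = v.testBit n := by
          rw [testBit_flip, decide_eq_false (by omega : ¬ j = n), Bool.xor_false]
        have hs : sgn F v j (n + 1) = xor (sgn F v j n) (v.testBit n && F.c n j) := by
          show cond (Nat.beq n j) _ _ = _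
          rw [show Nat.beq n j = false by rw [← Bool.not_eq_true, Nat.beq_eq]; omega]
          simp [hlt, sgn]
        rw [valN, valN, hb, hs]
        cases hv : v.testBit n
        · simpa using h1
        · simp only [cond_true, Bool.true_and]
          rw [mul_assoc, h.comm n (by omega) j hlt, ← mul_assoc, ← mul_assoc, h1, mul_assoc _ _ (e n),
            h.comm_cond _ (by omega), ← mul_assoc, mul_assoc _ _ (cond (F.c n j) b 1), h.cond_mul]
      · have hb : (v ^^^ 2 ^ j).testBit j = !v.testBit j := by
          rw [testBit_flip, decide_eq_true rfl, Bool.xor_true]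
        have hc : valN e (v ^^^ 2 ^ j) j = valN e v j := valN_congr e fun i hi => by
          rw [testBit_flip, decide_eq_false (by omega : ¬ j = i), Bool.xor_false]
        have hs : sgn F v j (j + 1) = (v.testBit j && F.q j) := by
          show cond (Nat.beq j j) _ _ = _
          rw [Nat.beq_refl]; rfl
        rw [valN, valN, hb, hc, hs]
        cases hv : v.testBit j
        · simp
        · simp only [cond_true, Bool.true_and, Bool.not_true, cond_false, mul_one]
          rw [mul_assoc, h.sq j hj]
    · rw [if_neg hjn]

theorem elt_stepC (a : ℕ) {j : ℕ} (hj : j < 8) : elt e b (stepC F a j) = elt e b a * e j := by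
  have h8 : (a ^^^ 2 ^ j).testBit 8 = a.testBit 8 := by
    rw [testBit_flip, decide_eq_false (by omega : ¬ j = 8), Bool.xor_false]
  have h1 := h.valN_mul_gen (v := a) hj 8 le_rfl
  rw [if_pos hj] at h1
  have h2 : elt e b a * e j = valN e (a ^^^ 2 ^ j) 8 * (cond (sgn F a j 8) b 1 * cond (a.testBit 8) b 1) := by
    rw [elt, mul_assoc, h.comm_cond _ hj, ← mul_assoc, h1, mul_assoc]
  rw [h2, h.cond_mul, stepC]
  cases sgn F a j 8
  · rw [cond_false, elt, h8, Bool.false_xor]
  · rw [cond_true, elt, valN_congr e (w := a ^^^ 2 ^ j) fun i hi => by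
      rw [Nat.testBit_xor, testBit_256 hi, Bool.xor_false], Nat.testBit_xor, h8,
      show Nat.testBit 256 8 = true from by decide]
    rw [Bool.true_xor, Bool.xor_true]

theorem elt_xor_256 (a : ℕ) : elt e b (a ^^^ 256) = elt e b a * b := by
  rw [elt, elt, valN_congr e (w := a) fun i hi => by rw [Nat.testBit_xor, testBit_256 hi, Bool.xor_false],
    Nat.testBit_xor, show Nat.testBit 256 8 = true from by decide, mul_assoc]
  cases a.testBit 8 <;> simp [h.b_sq]

theorem elt_xor_sign (a : ℕ) (x : Bool) : elt e b (a ^^^ cond x 256 0) = elt e b a * cond x b 1 := by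
  cases x
  · simp
  · exact h.elt_xor_256 a

theorem elt_mulC (a c : ℕ) : elt e b (mulC F a c) = elt e b a * elt e b c := by
  rw [mulC, h.elt_xor_sign]
  conv_rhs => rw [elt.eq_def e b c, ← mul_assoc]
  congr 1
  suffices ∀ n ≤ 8, elt e b (Nat.rec (motive := fun _ => ℕ) a
      (fun j r => cond (c.testBit j) (stepC F r j) r) n) = elt e b a * valN e c n from this 8 le_rfl
  intro n
  induction n with
  | zero => intro; simp [valN]
  | succ n ih =>
    intro hn
    rw [valN, ← mul_assoc, ← ih (by omega)]
    cases hc : c.testBit n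
    · simp only [hc, cond_false, mul_one]
    · simp only [hc, cond_true]
      exact h.elt_stepC _ (show n < 8 by omega)

omit h in
theorem elt_zero : elt e b 0 = 1 := by simp [elt, valN]

theorem elt_two_pow {i : ℕ} (hi : i < 8) : elt e b (2 ^ i) = e i := by
  have := h.elt_stepC 0 hi
  have hs : ∀ n, sgn F 0 i n = false := by
    intro n
    induction n with
    | zero => rfl
    | succ n ih =>
      show cond (Nat.beq n i) _ _ = _
      cases Nat.beq n i
      · simpa [sgn] using ih
      · simp
  rw [elt_zero, one_mul, stepC, hs, cond_false, Nat.zero_xor] at this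
  exact this

/-- Conjugation acts through the images of the generators. -/
theorem conj_elt {img : ℕ → ℕ} {g : G} (hb : g * b * g⁻¹ = b)
    (hg : ∀ i < 8, g * e i * g⁻¹ = elt e b (img i)) (v : ℕ) :
    g * elt e b v * g⁻¹ = elt e b (actC F img v) := by
  have hs : ∀ x : Bool, g * cond x b 1 * g⁻¹ = cond x b 1 := fun x => by cases x <;> simp [hb]
  rw [actC, h.elt_xor_sign, elt.eq_def e b v,
    show ∀ x y : G, g * (x * y) * g⁻¹ = g * x * g⁻¹ * (g * y * g⁻¹) from fun x y => by group, hs]
  congr 1
  suffices ∀ n ≤ 8, g * valN e v n * g⁻¹ = elt e b (Nat.rec (motive := fun _ => ℕ) 0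
      (fun j r => cond (v.testBit j) (mulC F r (img j)) r) n) from this 8 le_rfl
  intro n
  induction n with
  | zero => intro; simp [valN, elt_zero]
  | succ n ih =>
    intro hn
    rw [valN, show ∀ x y : G, g * (x * y) * g⁻¹ = g * x * g⁻¹ * (g * y * g⁻¹) from fun x y => by group,
      ih (by omega)]
    cases hv : v.testBit n
    · simp [hv]
    · simp only [hv, cond_true, hg n (by omega)]
      exact (h.elt_mulC _ _).symm

end Forms.Holds

theorem mod_256_eq {a c : ℕ} (h : ∀ i < 8, a.testBit i = c.testBit i) : a % 256 = c % 256 := by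
  apply Nat.eq_of_testBit_eq
  intro i
  rw [show (256 : ℕ) = 2 ^ 8 from rfl, Nat.testBit_mod_two_pow, Nat.testBit_mod_two_pow]
  by_cases hi : i < 8
  · simp [hi, h i hi]
  · simp [hi]

theorem stepC_low (a j : ℕ) : stepC F a j % 256 = (a ^^^ 2 ^ j) % 256 := by
  rw [stepC]
  cases sgn F a j 8
  · rfl
  · exact mod_256_eq fun i hi => by rw [cond_true, Nat.testBit_xor, testBit_256 hi, Bool.xor_false]

theorem mulC_low (a c : ℕ) : mulC F a c % 256 = (a ^^^ c) % 256 := by
  refine mod_256_eq fun i hi => ?_
  have h0 : (cond (c.testBit 8) 256 0).testBit i = false := by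
    cases c.testBit 8 <;> simp [testBit_256 hi]
  rw [mulC, Nat.testBit_xor, h0, Bool.xor_false]
  have : ∀ n ≤ 8, (Nat.rec (motive := fun _ => ℕ) a
      (fun j r => cond (c.testBit j) (stepC F r j) r) n).testBit i =
        xor (a.testBit i) (decide (i < n) && c.testBit i) := by
    intro n
    induction n with
    | zero => intro; simp
    | succ n ih =>
      intro hn
      have step : ∀ r, (stepC F r n).testBit i = xor (r.testBit i) (decide (n = i)) := fun r => by
        have := congrArg (Nat.testBit · i) (stepC_low F r n)
        simp only [show (256 : ℕ) = 2 ^ 8 from rfl, Nat.testBit_mod_two_pow, hi, decide_true,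
          Bool.true_and] at this
        rw [this, testBit_flip]
      rcases Nat.lt_trichotomy n i with hlt | rfl | hgt
      · cases hc : c.testBit n <;>
          simp [hc, step, ih (by omega), show ¬ i < n by omega, show ¬ i < n + 1 by omega,
            show n ≠ i by omega]
      · cases hc : c.testBit n <;> simp [hc, step, ih (by omega)]
      · cases hc : c.testBit n <;>
          simp [hc, step, ih (by omega), show i < n by omega, show i < n + 1 by omega,
            show n ≠ i by omega]
  rw [this 8 le_rfl, Nat.testBit_xor]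
  simp [hi]

/-- Modulo the sign the action is linear. -/
theorem actC_low (img : ℕ → ℕ) (m : ℕ) (h : ∀ j < 8, img j % 256 = Nat.shiftRight m (Nat.mul 8 j) % 256)
    (v : ℕ) : actC F img v % 256 = la m v % 256 := by
  refine mod_256_eq fun i hi => ?_
  have h0 : (cond (v.testBit 8) 256 0).testBit i = false := by
    cases v.testBit 8 <;> simp [testBit_256 hi]
  rw [actC, Nat.testBit_xor, h0, Bool.xor_false, la]
  have hm : ∀ r j, (mulC F r j).testBit i = xor (r.testBit i) (j.testBit i) := fun r j => by
    have := congrArg (Nat.testBit · i) (mulC_low F r j)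
    simp only [show (256 : ℕ) = 2 ^ 8 from rfl, Nat.testBit_mod_two_pow, hi, decide_true,
      Bool.true_and, Nat.testBit_xor] at this
    exact this
  suffices ∀ n ≤ 8, (Nat.rec (motive := fun _ => ℕ) 0
      (fun j r => cond (v.testBit j) (mulC F r (img j)) r) n).testBit i =
      (Nat.rec (motive := fun _ => ℕ) 0
        (fun j r => cond (v.testBit j) (r ^^^ (Nat.shiftRight m (Nat.mul 8 j) % 256)) r) n).testBit i
    from this 8 le_rfl
  intro n
  induction n with
  | zero => intro; rfl
  | succ n ih =>
    intro hn
    cases hv : v.testBit n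
    · simpa [hv] using ih (by omega)
    · simp only [hv, cond_true, hm, Nat.testBit_xor, ih (by omega), ← h n (by omega)]
      rw [show (img n % 256).testBit i = (img n).testBit i by
        rw [show (256 : ℕ) = 2 ^ 8 from rfl, Nat.testBit_mod_two_pow, decide_eq_true hi, Bool.true_and]]

end Cfsg.Agent.HNRec.Global
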