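import Cfsg.Agent.HNRec.Global.Basic
import Cfsg.Agent.HNSub.Main
import Cfsg.Agent.HNRec.Global.Data.Small
import Cfsg.Agent.HNRec.Global.Data.Count

/-!
Two classes of involutions of the model are large: a count of fixed points on 100 points.
-/

set_option autoImplicit false
set_option maxRecDepth 100000

namespace Cfsg.Agent.HNRec.Global

open Cfsg.Agent.Compute Cfsg.Agent.HNSub Cfsg.Agent.HNOrder Cfsg.Agent.CosetCert Cfsg.Agent.DCoset Data

theorem h100_rels : ∀ l ∈ HRels, wordCode l = rep100.one := by decide +kernel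

/-- The action on 100 points. -/
noncomputable def rho : HGroup →* Equiv.Perm (Fin 100) :=
  PresentedGroup.toGroup (f := perm100) (by
    intro r hr
    obtain ⟨l, hl, rfl⟩ := List.mem_map.1 hr
    exact lift_one_of_code (h100_rels l hl))

theorem rho_wd (l : List (Fin 3 × Bool)) : rho (HNOrder.wd HRels l) = rep100.den (wordCode l) := by
  rw [(wordCode_spec l).2]
  rfl

/-- The code of a word of the model. -/
noncomputable def code100 (w : List ℕ) : ℕ := wordCode (w.map (letOf 2))

theorem hE_wd : ∀ w : List ℕ, hE w = HNOrder.wd HRels (w.map (letOf 2))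
  | [] => by simp [hE, wd_nil]
  | x :: w => by
    rw [show hE (x :: w) = letterEl HRels x * hE w by simp [hE], hE_wd w, List.map_cons,
      ← List.singleton_append, wd_append]
    rfl

theorem rho_hE (w : List ℕ) : rho (hE w) = rep100.den (code100 w) := by
  rw [hE_wd, rho_wd]; rfl

theorem rho_range : rho.range = grp100 := by
  rw [MonoidHom.range_eq_map, ← PresentedGroup.closure_range_of, MonoidHom.map_closure, grp100,
    ← Set.range_comp]
  congr 1

/-- The central involution of the model. -/
noncomputable def tH : HGroup := hE [0, 0]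

theorem hgroup_finite : Finite HGroup := hgroup_card.1

theorem tH_comm (a : HGroup) : tH * a = a * tH := by
  have hle : Subgroup.closure (Set.range (PresentedGroup.of : Fin 3 → HGroup)) ≤ Subgroup.centralizer {tH} := by
    rw [Subgroup.closure_le]
    rintro _ ⟨b, rfl⟩
    rw [SetLike.mem_coe, Subgroup.mem_centralizer_singleton_iff]
    have e : (PresentedGroup.of b : HGroup) = hE [2 * b.val] := by
      rw [hE_wd]; fin_cases b <;> rfl
    rw [e, tH, ← hE_append, ← hE_append]
    apply sameW_spec
    fin_cases b <;> decide +kernel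
  rw [PresentedGroup.closure_range_of] at hle
  exact (Subgroup.mem_centralizer_singleton_iff.1 (hle (Subgroup.mem_top a))).symm

theorem rho_ker {a : HGroup} (h : rho a = 1) : a = 1 ∨ a = tH := by
  have := hgroup_card.1
  classical
  have hc : Nat.card rho.ker ≤ 2 := by
    have e := Subgroup.card_mul_index rho.ker
    rw [Subgroup.index_ker, rho_range, card_grp100] at e
    have := hgroup_card.2
    omega
  by_contra hne
  push Not at hne
  have ht : rho tH = 1 := by
    rw [tH, rho_hE, show code100 [0, 0] = rep100.one by decide +kernel, rep100.den_one]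
  have ht1 : tH ≠ 1 := diffW_spec (u := [0, 0]) (v := []) (by decide +kernel)
  let f : Fin 3 → rho.ker := ![1, ⟨tH, ht⟩, ⟨a, h⟩]
  have hf : Function.Injective f := by
    intro i j e
    have e' := congrArg Subtype.val e
    fin_cases i <;> fin_cases j <;> simp_all [f, Subtype.ext_iff, eq_comm]
  have := Nat.card_le_card_of_injective f hf
  rw [Nat.card_fin] at this
  omega

/-- A list of distinct conjugates of a permutation fixing the first point. -/
structure Cert (ub : ℕ) (N f : ℕ) (cs : Store) (cl co : Store) (cw : List ℕ) : Prop where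
  fixes : (Finset.univ.filter fun i : Fin 100 => getField 7 ub i.val = i.val).card = f
  head : Nat.beq (rep100.mul (cs.get 0) (code100 cw)) (rep100.mul (code100 cw) ub) = true
  steps : allFrom (fun i => force (get16 cl i) fun l =>
    gate (Nat.blt (l / 16) i) (gate (Nat.blt (l % 16) chGens1.length)
      (Nat.beq (rep100.mul (cs.get i) (chGens1.getD (l % 16) 0))
        (rep100.mul (chGens1.getD (l % 16) 0) (cs.get (l / 16)))))) 1 (N - 1) = true
  oks : allFrom (fun i => gate (rep100.okb (cs.get i)) (gate (Nat.beq (getField 7 (cs.get i) 0) 0)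
    (Nat.beq (rep100.mul (cs.get i) rep100.one) (cs.get i)))) 0 N = true
  order : allFrom (fun j => force (get16 co j) fun a => gate (Nat.blt a N)
    (Nat.beq (Nat.succ j) N || Nat.blt (cs.get a) (cs.get (get16 co (Nat.succ j))))) 0 N = true
  ok_ub : rep100.okb ub = true

theorem gens1_ok : chGens1.all (fun g => rep100.okb g && Nat.beq (getField 7 g 0) 0 &&
    Nat.beq (rep100.sift chain100 g) rep100.one) = true := by decide +kernel

theorem gens1_mem {k : ℕ} (hk : k < chGens1.length) :
    rep100.Ok (chGens1.getD k 0) ∧ rep100.den (chGens1.getD k 0) ∈ grp100 := by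
  have h := List.all_eq_true.1 gens1_ok _ (List.getElem_mem hk)
  simp only [Bool.and_eq_true, Nat.beq_eq] at h
  rw [List.getD_eq_getElem _ _ hk, grp100_eq]
  exact ⟨rep100.okb_sound _ h.1.1, rep100.mem_of_sift chain100 chain_ok (rep100.okb_sound _ h.1.1) h.2⟩

theorem inv_app {α : Type*} (g : Equiv.Perm α) (x : α) : g⁻¹ (g x) = x := g.symm_apply_apply x

theorem transitive_grp100 (i : Fin 100) : ∃ g ∈ grp100, g 0 = i := by
  have h : ∀ i : Fin 100, ∃ g ∈ grp100, g fixPt = i := by
    have step : ∀ k, k < reach.length → ∃ g ∈ grp100, g fixPt = (reach.getD k (0, 0, 0)).1 := by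
      intro k
      induction k using Nat.strong_induction_on with
      | _ k ih =>
        intro hk
        have h := reach_ok.1 k hk
        simp only [reachStep, Bool.and_eq_true, decide_eq_true_eq, Bool.or_eq_true] at h
        obtain ⟨⟨he, -⟩, hp⟩ := h
        set e := reach.getD k (0, 0, 0)
        obtain ⟨g, hg, hge⟩ : ∃ g ∈ grp100, g fixPt = e.2.1 := by
          rcases hp with hp | hp
          · exact ⟨1, one_mem _, by rw [beq_iff_eq] at hp; rw [hp]; rfl⟩
          · obtain ⟨f, hf, hfe⟩ := List.any_eq_true.1 hp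
            obtain ⟨j, hj, rfl⟩ := List.mem_iff_getElem.1 hf
            rw [beq_iff_eq] at hfe
            have hjk : j < k := by simp at hj; omega
            obtain ⟨g, hg, hge⟩ := ih j hjk (by omega)
            rw [List.getD_eq_getElem _ _ (by omega)] at hge
            rw [List.getElem_take] at hfe
            exact ⟨g, hg, hge.trans hfe⟩
        refine ⟨perm100 e.2.2 * g, mul_mem (Subgroup.subset_closure ⟨_, rfl⟩) hg, ?_⟩
        rw [Equiv.Perm.mul_apply, hge]
        refine Fin.ext ?_
        rw [perm100_apply]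
        have h0 : genCodes.getD e.2.2.val rep100.one = genCodes.getD e.2.2.val 0 := by
          rw [List.getD_eq_getElem _ _ (by simp [genCodes]), List.getD_eq_getElem _ _ (by simp [genCodes])]
        rw [h0]
        exact Nat.eq_of_beq_eq_true he
    intro i
    rcases reach_ok.2 i with rfl | h
    · exact ⟨1, one_mem _, rfl⟩
    · obtain ⟨e, he, hei⟩ := List.any_eq_true.1 h
      obtain ⟨k, hk, rfl⟩ := List.mem_iff_getElem.1 he
      rw [beq_iff_eq] at hei
      obtain ⟨g, hg, hge⟩ := step k hk
      rw [List.getD_eq_getElem _ _ hk] at hge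
      exact ⟨g, hg, hge.trans hei⟩
  obtain ⟨a, ha, ha0⟩ := h 0
  obtain ⟨c, hc, hci⟩ := h i
  exact ⟨c * a⁻¹, mul_mem hc (inv_mem ha), by
    rw [Equiv.Perm.mul_apply, ← ha0, inv_app, hci]⟩

open Classical in
/-- The conjugates in `grp100`. -/
noncomputable def conjSet (u : Equiv.Perm (Fin 100)) : Finset (Equiv.Perm (Fin 100)) :=
  Finset.univ.filter fun v => ∃ g ∈ grp100, v = g * u * g⁻¹

theorem mem_conjSet {u v : Equiv.Perm (Fin 100)} : v ∈ conjSet u ↔ ∃ g ∈ grp100, v = g * u * g⁻¹ := by
  simp [conjSet]

theorem pack7_congr {f g : ℕ → ℕ} : ∀ n, (∀ k < n, f k = g k) → pack 7 n f = pack 7 n g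
  | 0, _ => rfl
  | n + 1, h => by rw [pack_succ, pack_succ, pack7_congr n fun k hk => h k (by omega), h n (by omega)]

theorem mul_one_congr {a c : ℕ} (h : ∀ k < 100, getField 7 a k = getField 7 c k) :
    rep100.mul a rep100.one = rep100.mul c rep100.one := by
  show pack 7 100 _ = pack 7 100 _
  refine pack7_congr 100 fun k hk => ?_
  show getField 7 a (getField 7 (idCode 7 100) k) = getField 7 c (getField 7 (idCode 7 100) k)
  rw [getField_idCode (by norm_num) hk]
  exact h k hk

set_option maxHeartbeats 2000000 in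
theorem conjSet_count {ub N f : ℕ} {cs cl co : Store} {cw : List ℕ} (C : Cert ub N f cs cl co cw)
    (hN : 0 < N) : 100 * N ≤ (conjSet (rep100.den ub)).card * f := by
  classical
  set u := rep100.den ub
  have hub := rep100.okb_sound _ C.ok_ub
  have hok : ∀ i < N, rep100.Ok (cs.get i) ∧ getField 7 (cs.get i) 0 = 0 := fun i hi => by
    have := (allFrom_iff _ _ _).1 C.oks i (Nat.zero_le _) (by omega)
    rw [gate_eq, gate_eq, Bool.and_eq_true, Bool.and_eq_true, Nat.beq_eq, Nat.beq_eq] at this
    exact ⟨rep100.okb_sound _ this.1, this.2.1⟩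
  have hcanon : ∀ i < N, rep100.mul (cs.get i) rep100.one = cs.get i := fun i hi => by
    have := (allFrom_iff _ _ _).1 C.oks i (Nat.zero_le _) (by omega)
    rw [gate_eq, gate_eq, Bool.and_eq_true, Bool.and_eq_true, Nat.beq_eq, Nat.beq_eq] at this
    exact this.2.2
  have hcw : rep100.Ok (code100 cw) ∧ rep100.den (code100 cw) ∈ grp100 := by
    refine ⟨(wordCode_spec _).1, ?_⟩
    rw [← rho_hE, ← rho_range]
    exact ⟨_, rfl⟩
  have hmem : ∀ i < N, rep100.den (cs.get i) ∈ conjSet u := by
    intro i
    induction i using Nat.strong_induction_on with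
    | _ i ih =>
      intro hi
      rw [mem_conjSet]
      by_cases h0 : i = 0
      · subst h0
        refine ⟨_, hcw.2, ?_⟩
        have e := congrArg rep100.den (Nat.eq_of_beq_eq_true C.head)
        rw [rep100.den_mul _ _ (hok 0 hi).1 hcw.1, rep100.den_mul _ _ hcw.1 hub] at e
        rw [← e, mul_inv_cancel_right]
      · have hs := (allFrom_iff _ _ _).1 C.steps i (by omega) (by omega)
        simp only [force_eq, gate_eq, Bool.and_eq_true] at hs
        obtain ⟨hp, hg, he⟩ := hs
        rw [Nat.blt_eq] at hp hg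
        obtain ⟨g, hgm, hge⟩ := mem_conjSet.1 (ih _ hp (by omega))
        have e := congrArg rep100.den (Nat.eq_of_beq_eq_true he)
        rw [rep100.den_mul _ _ (hok i hi).1 (gens1_mem hg).1,
          rep100.den_mul _ _ (gens1_mem hg).1 (hok _ (by omega)).1, hge] at e
        refine ⟨rep100.den (chGens1.getD (get16 cl i % 16) 0) * g, mul_mem (gens1_mem hg).2 hgm, ?_⟩
        rw [eq_mul_inv_iff_mul_eq, ← mul_assoc, e]
        group
  have hinj : ∀ a c, a < N → c < N → rep100.den (cs.get a) = rep100.den (cs.get c) →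
      ∀ k < 100, getField 7 (cs.get a) k = getField 7 (cs.get c) k := fun a c ha hc e k hk => by
    have h1 := Cfsg.Agent.Compute.denPerm_apply (Equiv.refl (Fin 100)) (hok a ha).1 ⟨k, hk⟩
    have h2 := Cfsg.Agent.Compute.denPerm_apply (Equiv.refl (Fin 100)) (hok c hc).1 ⟨k, hk⟩
    exact congrArg Fin.val ((h1.symm.trans (DFunLike.congr_fun e _)).trans h2)
  -- the count of the conjugates fixing the first point
  have h0 : N ≤ ((conjSet u).filter fun v => v 0 = 0).card := by
    let g : Fin N → Fin N := fun j => ⟨get16 co j, by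
      have := (allFrom_iff _ _ _).1 C.order j (Nat.zero_le _) (by omega)
      simp only [force_eq, gate_eq, Bool.and_eq_true] at this
      exact Nat.blt_eq.mp this.1⟩
    have step : ∀ j : ℕ, ∀ (h : j + 1 < N), cs.get (g ⟨j, by omega⟩) < cs.get (g ⟨j + 1, h⟩) := by
      intro j h
      have := (allFrom_iff _ _ _).1 C.order j (Nat.zero_le _) (by omega)
      simp only [force_eq, gate_eq, Bool.and_eq_true, Bool.or_eq_true] at this
      rcases this.2 with e | e
      · exact absurd (Nat.eq_of_beq_eq_true e) (by omega)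
      · exact Nat.blt_eq.mp e
    have hmono : StrictMono fun j : Fin N => cs.get (g j) := by
      have : ∀ d j : ℕ, ∀ h : j + d + 1 < N, cs.get (g ⟨j, by omega⟩) < cs.get (g ⟨j + d + 1, h⟩) := by
        intro d
        induction d with
        | zero => intro j h; exact step j h
        | succ d ih => intro j h; exact (ih j (by omega)).trans (step (j + d + 1) (by omega))
      intro a c hac
      have hlt : a.1 < c.1 := hac
      have := this (c.1 - a.1 - 1) a.1 (by have := c.2; omega)
      simpa [show a.1 + (c.1 - a.1 - 1) + 1 = c.1 by omega] using this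
    have hcard : (Finset.univ : Finset (Fin N)).card ≤ ((conjSet u).filter fun v => v 0 = 0).card := by
      refine Finset.card_le_card_of_injOn (fun j => rep100.den (cs.get (g j))) (fun j _ => ?_) ?_
      · refine Finset.mem_filter.2 ⟨hmem _ (g j).2, Fin.ext ?_⟩
        have h1 := Cfsg.Agent.Compute.denPerm_apply (Equiv.refl (Fin 100)) (hok _ (g j).2).1 (0 : Fin 100)
        exact (congrArg Fin.val h1).trans (hok _ (g j).2).2
      · intro a _ c _ e
        apply hmono.injective
        show cs.get (g a) = cs.get (g c)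
        rw [← hcanon _ (g a).2, ← hcanon _ (g c).2]
        exact mul_one_congr fun k hk => hinj _ _ (g a).2 (g c).2 e k hk
    simpa using hcard
  -- every point has as many, every conjugate fixes `f` points
  have hrow : ∀ v ∈ conjSet u, (Finset.univ.filter fun i : Fin 100 => v i = i).card = f := by
    intro v hv
    obtain ⟨g, -, rfl⟩ := mem_conjSet.1 hv
    rw [← C.fixes]
    refine Finset.card_bij (fun i _ => g⁻¹ i) (fun i hi => ?_) (fun a _ c _ e => g⁻¹.injective e) (fun i hi => ?_)
    · simp only [Finset.mem_filter, Finset.mem_univ, true_and, Equiv.Perm.mul_apply] at hi ⊢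
      have h1 : u (g⁻¹ i) = g⁻¹ i := g.injective (hi.trans (g.apply_symm_apply i).symm)
      have h2 := Cfsg.Agent.Compute.denPerm_apply (Equiv.refl (Fin 100)) hub (g⁻¹ i)
      exact (congrArg Fin.val h2).symm.trans (congrArg Fin.val h1)
    · simp only [Finset.mem_filter, Finset.mem_univ, true_and] at hi
      refine ⟨g i, Finset.mem_filter.2 ⟨Finset.mem_univ _, ?_⟩, inv_app g i⟩
      have h2 := Cfsg.Agent.Compute.denPerm_apply (Equiv.refl (Fin 100)) hub i
      rw [Equiv.Perm.mul_apply, Equiv.Perm.mul_apply, inv_app, show u i = i from Fin.ext ((congrArg Fin.val h2).trans hi)]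
  have hcol : ∀ a : Fin 100, N ≤ ((conjSet u).filter fun v => v a = a).card := by
    intro a
    obtain ⟨g, hg, rfl⟩ := transitive_grp100 a
    refine h0.trans (Finset.card_le_card_of_injOn (fun v => g * v * g⁻¹) (fun v hv => ?_) fun x _ y _ e => ?_)
    · obtain ⟨hv1, hv2⟩ := Finset.mem_filter.1 hv
      obtain ⟨c, hc, rfl⟩ := mem_conjSet.1 hv1
      refine Finset.mem_filter.2 ⟨mem_conjSet.2 ⟨g * c, mul_mem hg hc, by group⟩, ?_⟩
      simp only [Equiv.Perm.mul_apply] at hv2 ⊢
      rw [inv_app, hv2]
    · exact mul_left_cancel (mul_right_cancel e)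
  have key := Finset.sum_card_bipartiteAbove_eq_sum_card_bipartiteBelow
    (s := conjSet u) (t := (Finset.univ : Finset (Fin 100))) (r := fun (v : Equiv.Perm (Fin 100)) i => v i = i)
  rw [Finset.sum_congr rfl (fun v hv => (show (Finset.bipartiteAbove (fun (v : Equiv.Perm (Fin 100)) i => v i = i) Finset.univ v).card = f
    from hrow v hv)), Finset.sum_const, smul_eq_mul] at key
  rw [key]
  calc 100 * N = ∑ _a : Fin 100, N := by simp
    _ ≤ _ := Finset.sum_le_sum fun a _ => hcol a

theorem certB : Cert (code100 bW) 1155 20 csB clB coB cwB := by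
  refine ⟨?_, ?_, ?_, ?_, ?_, ?_⟩ <;> decide +kernel

theorem certY : Cert (code100 yW) 1386 6 csY clY coY cwY := by
  refine ⟨?_, ?_, ?_, ?_, ?_, ?_⟩ <;> decide +kernel

/-- The centraliser is small when many permutations are covered by the conjugates. -/
theorem card_centralizer_le {u : HGroup} {M k : ℕ} (hM : M ≤ (conjSet (rho u)).card) (hk : k = 1 ∨ (k = 2 ∧ ∃ c, c * u * c⁻¹ = u * tH)) :
    Nat.card (Subgroup.centralizer {u}) * (k * M) ≤ 177408000 := by
  have := hgroup_card.1
  classical
  set C := Subgroup.centralizer {u}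
  refine le_trans ?_ hgroup_card.2
  rw [← Subgroup.card_mul_index C]
  refine Nat.mul_le_mul_left _ ?_
  have hlift : ∀ v : conjSet (rho u), ∃ h : HGroup, rho (h * u * h⁻¹) = (v : Equiv.Perm (Fin 100)) := by
    intro v
    obtain ⟨g, hg, he⟩ := mem_conjSet.1 v.2
    rw [← rho_range] at hg
    obtain ⟨h, rfl⟩ := hg
    exact ⟨h, by rw [map_mul, map_mul, map_inv, he]⟩
  have hconj : ∀ a c : HGroup, (QuotientGroup.mk a : HGroup ⧸ C) = QuotientGroup.mk c →
      a * u * a⁻¹ = c * u * c⁻¹ := by
    intro a c e
    have := Subgroup.mem_centralizer_singleton_iff.1 (QuotientGroup.eq.1 e)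
    calc a * u * a⁻¹ = a * (u * (a⁻¹ * c)) * c⁻¹ := by group
      _ = _ := by rw [← this]; group
  rw [Subgroup.index_eq_card]
  rcases hk with rfl | ⟨rfl, c, hc⟩
  · rw [one_mul]
    refine hM.trans ?_
    rw [← Nat.card_eq_finsetCard]
    refine Nat.card_le_card_of_injective (fun v => QuotientGroup.mk (hlift v).choose) fun v w e => ?_
    exact Subtype.ext (by rw [← (hlift v).choose_spec, ← (hlift w).choose_spec, hconj _ _ e])
  · refine (Nat.mul_le_mul_left 2 hM).trans ?_
    rw [← Nat.card_eq_finsetCard, ← Nat.card_fin 2, ← Nat.card_prod]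
    refine Nat.card_le_card_of_injective
      (fun p => QuotientGroup.mk ((hlift p.2).choose * if p.1 = 0 then 1 else c)) fun p q e => ?_
    have e' := hconj _ _ e
    have key : ∀ (i : Fin 2) (h : HGroup), (h * if i = 0 then 1 else c) * u * (h * if i = 0 then 1 else c)⁻¹ =
        h * u * h⁻¹ * if i = 0 then 1 else tH := by
      intro i h
      by_cases hi : i = 0
      · rw [if_pos hi, if_pos hi]; group
      · rw [if_neg hi, if_neg hi, mul_inv_rev,
          show h * c * u * (c⁻¹ * h⁻¹) = h * (c * u * c⁻¹) * h⁻¹ by group, hc,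
          mul_assoc (h * u) h⁻¹ tH, ← tH_comm h⁻¹]
        group
    rw [key, key] at e'
    have ht : ∀ i : Fin 2, rho (if i = 0 then 1 else tH) = 1 := fun i => by
      split_ifs
      · exact map_one _
      · rw [tH, rho_hE, show code100 [0, 0] = rep100.one by decide +kernel, rep100.den_one]
    have h2 := congrArg rho e'
    rw [map_mul rho _ (if p.1 = 0 then 1 else tH), map_mul rho _ (if q.1 = 0 then 1 else tH),
      ht, ht, mul_one, mul_one, (hlift p.2).choose_spec, (hlift q.2).choose_spec] at h2
    have h2' := Subtype.ext h2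
    rw [h2'] at e'
    have h3 := mul_left_cancel e'
    have ht1 : tH ≠ 1 := diffW_spec (u := [0, 0]) (v := []) (by decide +kernel)
    refine Prod.ext ?_ h2'
    obtain ⟨i, a⟩ := p
    obtain ⟨j, a'⟩ := q
    fin_cases i <;> fin_cases j <;>
      first | rfl | exact absurd (by simpa using h3) ht1 | exact absurd (by simpa using h3.symm) ht1

theorem card_centralizer_b : Nat.card (Subgroup.centralizer {hE bW}) ≤ 30720 := by
  have h := conjSet_count certB (by norm_num)
  rw [← rho_hE] at h
  have := card_centralizer_le (M := 5775) (k := 1) (u := hE bW) (by omega) (Or.inl rfl)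
  omega

theorem card_centralizer_y : Nat.card (Subgroup.centralizer {hE yW}) ≤ 3840 := by
  have h := conjSet_count certY (by norm_num)
  rw [← rho_hE] at h
  have hw : hE twY * hE yW * (hE twY)⁻¹ = hE yW * tH := by
    rw [mul_inv_eq_iff_eq_mul, tH, ← hE_append, ← hE_append, ← hE_append]
    exact sameW_spec (by decide +kernel)
  have := card_centralizer_le (M := 23100) (k := 2) (u := hE yW) (by omega) (Or.inr ⟨rfl, _, hw⟩)
  omega

end Cfsg.Agent.HNRec.Global
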