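import Cfsg.Agent.HNRec.Global.Quot

/-!
The data of the criterion: vectors for the extraspecial group modulo `b`, the transfer for both
classes and the size of the class of mixed type.
-/

set_option autoImplicit false
set_option maxRecDepth 100000

namespace Cfsg.Agent.HNRec.Global

open Cfsg.Agent.CosetCert Data

theorem el_256 : el 256 = bR := by
  rw [show (256 : ℕ) = 0 ^^^ 256 from (Nat.zero_xor 256).symm, el, holds.elt_xor_256, elt_zero, one_mul]

theorem bR_mem : bR ∈ KK := el_256 ▸ el_mem 256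

theorem el_low_eq {a c : ℕ} (h : a % 256 = c % 256) : el c = el a ∨ el c = el a * bR := by
  rw [el_split a, el_split c, h]
  cases a.testBit 8 <;> cases c.testBit 8 <;> simp [mul_assoc, bR_sq]

theorem pList_lt : pList.all (fun v => Nat.blt v 256 && Nat.blt 0 v) = true := by decide +kernel

theorem pList_mem {v : ℕ} (h : v ∈ pList) : v < 256 ∧ 0 < v := by
  have := List.all_eq_true.1 pList_lt v h
  rw [Bool.and_eq_true] at this
  exact ⟨Nat.blt_eq.mp this.1, Nat.blt_eq.mp this.2⟩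

theorem tR_sq : tR * tR = 1 := by rw [tR, ← W_append, ← W_nil]; exact W_same (by decide +kernel)

theorem TCl.sq {x : RG} (h : TCl x) : x * x = 1 := by
  obtain ⟨c, rfl⟩ := h
  rw [show c * tR * c⁻¹ * (c * tR * c⁻¹) = c * (tR * tR) * c⁻¹ by group, tR_sq]; group

theorem BCl.sq {x : RG} (h : BCl x) : x * x = 1 := by
  obtain ⟨c, rfl⟩ := h
  rw [show c * bR * c⁻¹ * (c * bR * c⁻¹) = c * (bR * bR) * c⁻¹ by group, bR_sq]; group

theorem AR_sq {y : RG} (h : y ∈ AR) : y * y = 1 := by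
  rcases AR_split h with ⟨h, -⟩ | ⟨h, -⟩
  exacts [h.sq, h.sq]

theorem act_b : Act bR (mA 0) := el_256 ▸ act_el 256

theorem act_right_b {k : RG} {m : ℕ} (h : Act k m) : Act (k * bR) m :=
  act_mul h act_b fun v => by rw [la_one, la_mod]

variable {G : Type*} [Group G] (S : Hyp G)

/-- The image of a vector. -/
noncomputable def Hyp.phiE (v : ℕ) : S.X := S.phi ⟨el v, el_mem v⟩

theorem Hyp.phiE_congr {a c : ℕ} (h : a % 256 = c % 256) : S.phiE a = S.phiE c :=
  S.phi_eq.2 (el_low_eq h)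

theorem Hyp.phiE_inj {a c : ℕ} (h : S.phiE a = S.phiE c) : a % 256 = c % 256 := by
  rcases S.phi_eq.1 h with e | e
  · exact el_low_inj e.symm
  · have e' : el c = el (a ^^^ 256) := by
      rw [show el (a ^^^ 256) = el a * bR from holds.elt_xor_256 a]; exact e
    rw [el_low_inj e']
    exact mod_256_eq fun i hi => by rw [Nat.testBit_xor, testBit_256 hi, Bool.xor_false]

theorem Hyp.phiE_mul (a c : ℕ) : S.phiE a * S.phiE c = S.phiE (a ^^^ c) := by
  rw [← S.phiE_congr (mulC_low FF a c), Hyp.phiE, Hyp.phiE, Hyp.phiE, ← map_mul]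
  exact congrArg S.phi (Subtype.ext (holds.elt_mulC a c).symm)

theorem Hyp.phiE_zero : S.phiE 0 = 1 := by
  rw [Hyp.phiE, ← map_one S.phi]; exact congrArg S.phi (Subtype.ext elt_zero)

theorem Hyp.phiE_inv (a : ℕ) : (S.phiE a)⁻¹ = S.phiE a :=
  inv_eq_of_mul_eq_one_right (by rw [S.phiE_mul, Nat.xor_self, S.phiE_zero])

theorem Hyp.phiE_eq_one {a : ℕ} (h : S.phiE a = 1) : a % 256 = 0 := by
  simpa using S.phiE_inj (h.trans S.phiE_zero.symm)

theorem Hyp.phiE_conj {k : KK} {m : ℕ} (h : Act (k : RG) m) (v : ℕ) :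
    S.phi k * S.phiE v * (S.phi k)⁻¹ = S.phiE (la m v) := by
  obtain ⟨d, hd, hl⟩ := h v
  rw [← S.phiE_congr (a := d) (c := la m v) (by rw [hl, Nat.mod_eq_of_lt (la_lt _ _)]),
    Hyp.phiE, Hyp.phiE, ← map_inv, ← map_mul, ← map_mul]
  exact congrArg S.phi (Subtype.ext hd)

theorem Hyp.mem_EX {x : S.X} : x ∈ S.EX ↔ ∃ v < 256, x = S.phiE v := by
  constructor
  · rintro ⟨k, hk, rfl⟩
    obtain ⟨c, hc⟩ := hk
    refine ⟨c % 256, Nat.mod_lt _ (by norm_num), ?_⟩
    rw [S.phiE_congr (Nat.mod_mod c 256)]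
    exact congrArg S.phi (Subtype.ext hc.symm)
  · rintro ⟨v, -, rfl⟩
    exact ⟨⟨el v, el_mem v⟩, ⟨v, rfl⟩, rfl⟩

theorem Hyp.mem_PX {x : S.X} : x ∈ S.PX ↔ ∃ v ∈ pList, x = S.phiE v := by
  constructor
  · rintro ⟨k, ⟨d, hd, hp⟩, rfl⟩
    refine ⟨_, hp, ?_⟩
    rw [S.phiE_congr (Nat.mod_mod d 256)]
    exact congrArg S.phi (Subtype.ext hd)
  · rintro ⟨v, hv, rfl⟩
    exact ⟨⟨el v, el_mem v⟩, ⟨v, rfl, by rwa [Nat.mod_eq_of_lt (pList_mem hv).1]⟩, rfl⟩

theorem aR_mem : aR ∈ KK := (repR_spec (c := 0) (by norm_num)).1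

/-- The image of the mixed representative. -/
noncomputable def Hyp.aX : S.X := S.phi ⟨aR, aR_mem⟩

/-- The image of the central involution of the model. -/
noncomputable def Hyp.tX : S.X := S.phi ⟨tR, tR_mem⟩

theorem Hyp.phi_conj (a c : KK) : S.phi a * S.phi c * (S.phi a)⁻¹ = S.phi (a * c * a⁻¹) := by
  rw [map_mul, map_mul, map_inv]

theorem Hyp.PX_orbit {k : KK} (hk : (k : RG) ∈ PR) :
    ∃ l : KK, S.phi k = S.phi l * S.tX * (S.phi l)⁻¹ := by
  obtain ⟨d, hd, hp⟩ := hk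
  obtain ⟨c, hc, he⟩ := PR_orbit hp
  refine ⟨⟨c, hc⟩, ?_⟩
  rw [Hyp.tX, S.phi_conj]
  refine S.phi_eq.2 ?_
  rw [hd]
  exact he

theorem Hyp.AX_orbit {k : KK} (hk : (k : RG) ∈ AR) :
    ∃ l : KK, S.phi k = S.phi l * S.aX * (S.phi l)⁻¹ := by
  obtain ⟨c, hc, he⟩ := hk
  refine ⟨⟨c, hc⟩, ?_⟩
  rw [Hyp.aX, S.phi_conj]
  refine (S.phi_eq.2 ?_).symm
  rcases he with e | e
  · exact Or.inl e
  · refine Or.inr (e.trans ?_)
    exact (conj_mul_b hc aR).symm

/-- The conjugates of the representative, coded. -/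
theorem code_of_conj (k : KK) : ∃ p : Fin 60 × Fin 256, la (clsM 0) p.2 = p.2 ∧
    ∃ d, d % 256 = p.2.1 ∧ kOf (cl60J.getD p.1 0) * ((k : RG) * aR * (k : RG)⁻¹) *
      (kOf (cl60J.getD p.1 0))⁻¹ = el d * aR := by
  obtain ⟨n, hn, ha⟩ := cls_of_conj k.2
  have hh := (allFrom_iff _ _ _).1 cls_checks.2.1 n (Nat.zero_le _) (by omega)
  simp only [force_eq, gate_eq, Bool.and_eq_true] at hh
  obtain ⟨hi, hj, heq⟩ := hh
  have hj' : cl60J.getD n 0 < nM := by rw [nM]; exact Nat.blt_eq.mp hj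
  obtain ⟨hJ, hJa⟩ := kOf_spec hj'
  set J := kOf (cl60J.getD n 0)
  set y := J * ((k : RG) * aR * (k : RG)⁻¹) * J⁻¹ with hy
  obtain ⟨hr, hra, hr2, -⟩ := repR_spec (c := 0) (by norm_num)
  have haa : aR * aR = 1 := hr2 (by norm_num)
  have hyk : y ∈ KK := mul_mem (mul_mem hJ (mul_mem (mul_mem k.2 aR_mem) (inv_mem k.2))) (inv_mem hJ)
  have hy2 : y * y = 1 := by
    rw [hy, show J * ((k : RG) * aR * (k : RG)⁻¹) * J⁻¹ * (J * ((k : RG) * aR * (k : RG)⁻¹) * J⁻¹) =
      J * ((k : RG) * (aR * aR) * (k : RG)⁻¹) * J⁻¹ by group, haa]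
    group
  have hya : Act y (clsM 0) := by
    intro v
    obtain ⟨l, -, hla⟩ := exists_index (inv_mem hJ)
    obtain ⟨d1, e1, l1⟩ := hla v
    obtain ⟨d2, e2, l2⟩ := ha d1
    obtain ⟨d3, e3, l3⟩ := hJa d2
    obtain ⟨d4, e4, l4⟩ := hJa d1
    refine ⟨d3, by rw [hy, ← e3, ← e2, ← e1]; group, ?_⟩
    have hd4 : el d4 = el v := by rw [← e4, ← e1]; group
    rw [← la_mod (clsM 0) v, ← el_low_inj hd4, l4, l3, ← la_mod (mA (cl60J.getD n 0)) d2, l2,
      la_mod, ← la_mod (mA (cl60.getD n 0)) d1, ← la_mod (mA (cl60J.getD n 0)) d1]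
    exact lin_ext (fun a c => by simp only [la_xor]) (fun a c => by simp only [la_xor])
      (fun j hj => Nat.eq_of_beq_eq_true ((allFrom_iff _ _ _).1 heq j (Nat.zero_le _) (by omega)))
      _ (Nat.mod_lt _ (by norm_num))
  have hsq := la_comp_sq hya hy2
  obtain ⟨d, -, hd⟩ := kernel_el (mul_mem hyk aR_mem)
    (act_mul hya hra fun v => by
      show la (mA 0) v = la (clsM 0) (la (clsM 0) v)
      rw [la_one, hsq])
  have hye : y = el d * aR := by rw [← hd, mul_assoc, haa, mul_one]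
  obtain ⟨d1, e1, l1⟩ := hra d
  have hfix : la (clsM 0) d = d % 256 := by
    have h1 : el (mulC FF d d1) = el 0 := by
      rw [el, holds.elt_mulC, show elt eR bR d1 = aR * el d * aR⁻¹ from e1.symm, el, elt_zero, ← hy2, hye,
        inv_eq_of_mul_eq_one_right haa]
      simp only [el, mul_assoc]
    have hz := el_low_inj h1
    rw [mulC_low] at hz
    rw [← l1]
    refine mod_256_eq fun i hi => ?_
    have := congrArg (Nat.testBit · i) hz
    simpa [show (256 : ℕ) = 2 ^ 8 from rfl, Nat.testBit_mod_two_pow, hi, eq_comm] using this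
  refine ⟨(⟨n, hn⟩, ⟨d % 256, Nat.mod_lt _ (by norm_num)⟩), ?_, d, rfl, hye⟩
  show la (clsM 0) (d % 256) = d % 256
  rw [la_mod, hfix]

theorem fixed_card :
    (Finset.univ.filter fun v : Fin 256 => la (clsM 0) v.1 = v.1).card = 16 := by
  have h := cls_checks.2.2.1
  have : ((Finset.univ.filter fun v : Fin 256 => la (clsM 0) v.1 = v.1).map Fin.valEmbedding) =
      ((List.range 256).filter fun v => Nat.beq (la (clsM 0) v) v).toFinset := by
    ext v
    simp only [Finset.mem_map, Finset.mem_filter, Finset.mem_univ, true_and, Fin.valEmbedding_apply,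
      List.mem_toFinset, List.mem_filter, List.mem_range, Nat.beq_eq]
    exact ⟨by rintro ⟨a, ha, rfl⟩; exact ⟨a.2, ha⟩, fun ⟨h1, h2⟩ => ⟨⟨v, h1⟩, h2, rfl⟩⟩
  rw [← Finset.card_map, this, List.toFinset_card_of_nodup (List.nodup_range.filter _), h]

/-- The centraliser of the representative in the subgroup. -/
noncomputable abbrev Sa : Subgroup KK := (Subgroup.centralizer {aR}).subgroupOf KK

theorem mem_Sa {a c : KK} :
    (QuotientGroup.mk a : KK ⧸ Sa) = QuotientGroup.mk c ↔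
      (a : RG) * aR * (a : RG)⁻¹ = (c : RG) * aR * (c : RG)⁻¹ := by
  rw [QuotientGroup.eq, Subgroup.mem_subgroupOf, Subgroup.mem_centralizer_singleton_iff]
  push_cast
  constructor <;> intro h
  · calc (a : RG) * aR * (a : RG)⁻¹ = (a : RG) * (aR * ((a : RG)⁻¹ * c)) * (c : RG)⁻¹ := by group
      _ = _ := by rw [← h]; group
  · calc (a : RG)⁻¹ * c * aR = (a : RG)⁻¹ * ((c : RG) * aR * (c : RG)⁻¹) * c := by group
      _ = _ := by rw [← h]; group

theorem index_Sa_le (S : Hyp G) : (Sa).index ≤ 960 := by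
  have := finite_RG
  classical
  let F : Finset (Fin 60 × Fin 256) :=
    Finset.univ ×ˢ (Finset.univ.filter fun v : Fin 256 => la (clsM 0) v.1 = v.1)
  let f : KK ⧸ Sa → F := fun q => ⟨(code_of_conj q.out).choose,
    Finset.mem_product.2 ⟨Finset.mem_univ _,
      Finset.mem_filter.2 ⟨Finset.mem_univ _, (code_of_conj q.out).choose_spec.1⟩⟩⟩
  have hf : Function.Injective f := by
    intro q r e
    obtain ⟨-, d, hd, h1⟩ := (code_of_conj q.out).choose_spec
    obtain ⟨-, d', hd', h2⟩ := (code_of_conj r.out).choose_spec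
    have e' : (code_of_conj q.out).choose = (code_of_conj r.out).choose := congrArg Subtype.val e
    rw [e'] at h1 hd
    set J := kOf (cl60J.getD (code_of_conj r.out).choose.1 0)
    rw [← QuotientGroup.out_eq' q, ← QuotientGroup.out_eq' r, mem_Sa]
    rcases el_low_eq (hd.trans hd'.symm) with h | h <;> rw [h] at h2
    · exact mul_left_cancel (mul_right_cancel (h1.trans h2.symm))
    · exfalso
      have hJ : J ∈ KK := by
        by_cases hn : cl60J.getD (code_of_conj r.out).choose.1 0 < nM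
        · exact (kOf_spec hn).1
        · simp only [J, kOf, hn, dite_false]
          split_ifs <;> exact one_mem _
      have hT : ∀ w : KK, TCl (J * ((w : RG) * aR * (w : RG)⁻¹) * J⁻¹) := fun w => (TCl_aR.conj _).conj _
      have hB : BCl (J * ((q.out : KK) * aR * ((q.out : KK) : RG)⁻¹) * J⁻¹ * bR) := by
        rw [conj_mul_b hJ, conj_mul_b (q.out : KK).2]
        exact (BCl_ab.conj _).conj _
      refine S.not_TB' (hT r.out) ?_
      rw [h2, mul_assoc, ← KK_b aR_mem, ← mul_assoc, ← h1]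
      exact hB
  have := Nat.card_le_card_of_injective f hf
  rwa [Nat.card_eq_finsetCard, Finset.card_product, Finset.card_univ, Fintype.card_fin, fixed_card,
    ← Subgroup.index_eq_card] at this

theorem cent_a_le (S : Hyp G) : Subgroup.centralizer {aR} ⊓ Subgroup.centralizer {bR} ≤ KK := by
  have := finite_RG
  set C : Subgroup RG := Subgroup.centralizer {aR} ⊓ Subgroup.centralizer {bR}
  have hS : 3840 ≤ Nat.card Sa := by
    have e := Subgroup.card_mul_index Sa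
    rw [card_KK] at e
    have hidx := index_Sa_le S
    nlinarith [e, hidx]
  have h1 : Nat.card ↥(KK ⊓ C) = Nat.card C := by
    refine le_antisymm (Subgroup.card_le_of_le inf_le_right) ?_
    refine card_cent_a.trans (hS.trans ?_)
    refine Nat.card_le_card_of_injective (fun x => ⟨((x : KK) : RG), (x : KK).2,
      Subgroup.mem_subgroupOf.1 x.2,
      Subgroup.mem_centralizer_singleton_iff.2 (KK_b (x : KK).2)⟩) ?_
    intro x y e
    exact Subtype.ext (Subtype.ext (congrArg Subtype.val e : _))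
  intro x hx
  have := (Subgroup.eq_of_le_of_card_ge inf_le_right h1.ge) ▸ hx
  exact this.1

theorem card_Sa_le : Nat.card Sa ≤ 3840 := by
  have := finite_RG
  refine le_trans ?_ card_cent_a
  refine Nat.card_le_card_of_injective (fun x => ⟨((x : KK) : RG), Subgroup.mem_subgroupOf.1 x.2,
    Subgroup.mem_centralizer_singleton_iff.2 (KK_b (x : KK).2)⟩) ?_
  intro x y e
  exact Subtype.ext (Subtype.ext (congrArg Subtype.val e : _))

theorem Hyp.transfer_a {g : S.X} (h : g * S.aX = S.aX * g) : g ∈ S.phi.range := by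
  have h' : g * S.aX * g⁻¹ = S.aX := by rw [h, mul_inv_cancel_right]
  obtain ⟨y, rfl⟩ := QuotientGroup.mk'_surjective S.Z g
  rw [Hyp.aX, Hyp.phi, MonoidHom.comp_apply, ← map_inv, ← map_mul, ← map_mul,
    QuotientGroup.mk'_eq_mk'] at h'
  obtain ⟨z, hz, e⟩ := h'
  have e' : (y : G) * S.θ aR * (y : G)⁻¹ * z = S.θ aR := congrArg Subtype.val e
  rcases S.mem_Z hz with hz1 | hz1 <;> rw [hz1] at e'
  · rw [mul_one, mul_inv_eq_iff_eq_mul] at e'
    obtain ⟨r, hr⟩ := S.cent_TCl TCl_aR e'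
    have hyb := Subgroup.mem_centralizer_singleton_iff.1 y.2
    have hrK : r ∈ KK := cent_a_le S ⟨Subgroup.mem_centralizer_singleton_iff.2 (S.inj (by
        rw [map_mul, map_mul, hr]; exact e')),
      Subgroup.mem_centralizer_singleton_iff.2 (S.inj (by rw [map_mul, map_mul, hr]; exact hyb))⟩
    exact ⟨⟨r, hrK⟩, congrArg (QuotientGroup.mk' S.Z) (Subtype.ext hr)⟩
  · exfalso
    have e2 : (y : G) * S.θ aR * (y : G)⁻¹ = S.θ (aR * bR) := by
      rw [map_mul]
      calc _ = (y : G) * S.θ aR * (y : G)⁻¹ * (S.θ bR * S.θ bR) := by rw [← map_mul, bR_sq, map_one, mul_one]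
        _ = _ := by rw [← mul_assoc, e']
    exact S.not_TB TCl_aR BCl_ab ((y : G)⁻¹) (by rw [← e2]; group)

theorem Hyp.transfer {x g : S.X} (hx : x ∈ S.PX ∪ S.AX) (h : g * x * g⁻¹ ∈ S.phi.range) :
    g ∈ S.phi.range := by
  obtain ⟨k, hk⟩ := h
  have key : ∀ x0 : S.X, (∀ u, u * x0 = x0 * u → u ∈ S.phi.range) → ∀ l l' : KK,
      x = S.phi l * x0 * (S.phi l)⁻¹ → g * x * g⁻¹ = S.phi l' * x0 * (S.phi l')⁻¹ → g ∈ S.phi.range := by
    intro x0 hx0 l l' h1 h2
    have := hx0 ((S.phi l')⁻¹ * g * S.phi l) (by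
      calc (S.phi l')⁻¹ * g * S.phi l * x0
          = (S.phi l')⁻¹ * (g * (S.phi l * x0 * (S.phi l)⁻¹) * g⁻¹) * g * S.phi l := by group
        _ = _ := by rw [← h1, h2]; group)
    obtain ⟨u, hu⟩ := this
    exact ⟨l' * u * l⁻¹, by rw [map_mul, map_mul, map_inv, hu]; group⟩
  rcases hx with ⟨k0, hk0, rfl⟩ | ⟨k0, hk0, rfl⟩
  · obtain ⟨l, hl⟩ := S.PX_orbit hk0
    obtain ⟨l', hl'⟩ := S.PX_orbit ((S.conj_kind (Or.inl hk0) hk.symm).1 hk0)
    exact key _ (fun u hu => S.transfer_t hu) l l' hl (hk.symm.trans hl')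
  · obtain ⟨l, hl⟩ := S.AX_orbit hk0
    obtain ⟨l', hl'⟩ := S.AX_orbit ((S.conj_kind (Or.inr hk0) hk.symm).2 hk0)
    exact key _ (fun u hu => S.transfer_a hu) l l' hl (hk.symm.trans hl')

theorem act_conj_rep {c y : RG} (hc : c ∈ KK) {m : ℕ} (h : Act y m) {d : ℕ} :
    ∃ e, c⁻¹ * el d * c = el e ∧ Act (el e * y) m := by
  obtain ⟨l, -, hl⟩ := exists_index (inv_mem hc)
  obtain ⟨e, he, -⟩ := hl d
  refine ⟨e, by rw [← he, inv_inv], act_mul (act_el e) h fun v => ?_⟩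
  rw [la_one, Nat.mod_eq_of_lt (la_lt _ _)]

theorem prod_AR (S : Hyp G) {d : ℕ} (hd : d % 256 ∈ pList) {k : RG} (hk : k ∈ AR)
    (hc : el d * k = k * el d ∨ el d * k = k * el d * bR) : el d * k ∈ AR := by
  set p := el d with hp
  have hpm : p ∈ KK := el_mem d
  have hcomm : p * k = k * p := by
    rcases hc with h | h
    · exact h
    · exfalso
      have e : p * k * p⁻¹ = k * bR := by
        rw [h, mul_assoc k p, ← KK_b hpm |>.symm, ← mul_assoc, mul_inv_cancel_right]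
      rcases AR_split hk with ⟨ht, hb⟩ | ⟨hb, ht⟩
      · exact S.not_TB' (e ▸ ht.conj p) hb
      · exact S.not_TB' ht (e ▸ hb.conj p)
  have hq2 : p * k * (p * k) = 1 := by
    rw [show p * k * (p * k) = p * (k * p) * k by group, ← hcomm, ← mul_assoc,
      show p * p = 1 from (TCl_PR ⟨d, rfl, hd⟩).sq, one_mul, AR_sq hk]
  obtain ⟨-, hra, -, -⟩ := repR_spec (c := 0) (by norm_num)
  obtain ⟨c, hcm, hke⟩ := hk
  obtain ⟨x, hx, hxa, hxm⟩ : ∃ x, k = c * x * c⁻¹ ∧ Act x (clsM 0) ∧ x ∈ KK := by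
    rcases hke with e | e
    · exact ⟨aR, e, hra, aR_mem⟩
    · exact ⟨aR * bR, e, act_right_b hra, mul_mem aR_mem bR_mem⟩
  obtain ⟨e, he, hea⟩ := act_conj_rep hcm hxa (d := d)
  have hq : p * k = c * (el e * x) * c⁻¹ := by rw [← he, hx, hp]; group
  obtain ⟨g, hg, hg'⟩ := invol_rep (mul_mem (el_mem e) hxm) (by
    calc el e * x * (el e * x) = c⁻¹ * (p * k * (p * k)) * c := by rw [hq]; group
      _ = 1 := by rw [hq2]; group) (by norm_num) hea
  refine ⟨c * g⁻¹, mul_mem hcm (inv_mem hg), ?_⟩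
  rcases hg' with h | h
  · left
    rw [hq, show aR = g * (el e * x) * g⁻¹ from h.symm]; group
  · right
    rw [hq, show aR * bR = g * (el e * x) * g⁻¹ from h.symm]; group

theorem one_nmem_AR (S : Hyp G) {k : RG} (hk : k ∈ AR) : k ≠ 1 ∧ k ≠ bR := by
  have hb : ¬ TCl bR := fun h => S.not_TB' h ⟨1, by group⟩
  constructor <;> intro e <;> rcases AR_split hk with ⟨ht, -⟩ | ⟨-, ht⟩ <;> rw [e] at ht
  · exact ht.ne_one rfl
  · rw [one_mul] at ht; exact hb ht
  · exact hb ht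
  · rw [bR_sq] at ht; exact ht.ne_one rfl

/-- The data of the criterion. -/
noncomputable def Hyp.data : Abs.Data S.X where
  K := S.phi.range
  E := S.EX
  P := S.PX
  A := S.AX
  invP t ht := by
    obtain ⟨v, -, rfl⟩ := S.mem_PX.1 ht
    rw [S.phiE_mul, Nat.xor_self, S.phiE_zero]
  invA a ha := by
    obtain ⟨k, hk, rfl⟩ := ha
    rw [← map_mul, ← map_one S.phi]
    exact congrArg S.phi (Subtype.ext (AR_sq hk))
  oneP h := by
    obtain ⟨v, hv, he⟩ := S.mem_PX.1 h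
    have h0 := S.phiE_eq_one he.symm
    rw [Nat.mod_eq_of_lt (pList_mem hv).1] at h0
    exact absurd h0 (Nat.pos_iff_ne_zero.1 (pList_mem hv).2)
  oneA h := by
    obtain ⟨k, hk, he⟩ := h
    rw [← map_one S.phi] at he
    rcases S.phi_eq.1 he with e | e
    · exact (one_nmem_AR S hk).1 e
    · exact (one_nmem_AR S hk).2 (by rw [e, OneMemClass.coe_one, one_mul])
  P_le t ht := by
    obtain ⟨v, hv, rfl⟩ := S.mem_PX.1 ht
    exact S.mem_EX.2 ⟨v, (pList_mem hv).1, rfl⟩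
  E_le x hx := by
    obtain ⟨v, -, rfl⟩ := S.mem_EX.1 hx
    exact ⟨_, rfl⟩
  A_le a ha := by
    obtain ⟨k, -, rfl⟩ := ha
    exact ⟨k, rfl⟩
  E_norm k hk e he := by
    obtain ⟨k, rfl⟩ := hk
    obtain ⟨v, -, rfl⟩ := S.mem_EX.1 he
    obtain ⟨i, -, hi⟩ := exists_index k.2
    exact S.mem_EX.2 ⟨_, la_lt _ _, S.phiE_conj hi v⟩
  P_ne := ⟨S.phiE 2, S.mem_PX.2 ⟨2, by decide +kernel, rfl⟩⟩
  A_ne := ⟨S.aX, ⟨⟨aR, aR_mem⟩, ⟨1, one_mem _, Or.inl (by simp)⟩, rfl⟩⟩
  transfer x g hx h := S.transfer hx h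
  fuseP t ht g h := by
    obtain ⟨k0, hk0, rfl⟩ := ht
    obtain ⟨k, hk⟩ := h
    exact ⟨k, (S.conj_kind (Or.inl hk0) hk.symm).1 hk0, hk.symm⟩
  fuseA a ha g h := by
    obtain ⟨k0, hk0, rfl⟩ := ha
    obtain ⟨k, hk⟩ := h
    exact ⟨k, (S.conj_kind (Or.inr hk0) hk.symm).2 hk0, hk.symm⟩
  not_conj t ht a ha g he := by
    obtain ⟨k, hk, rfl⟩ := ht
    obtain ⟨k0, hk0, rfl⟩ := ha
    have h1 := (S.conj_kind (Or.inr hk0) he).2 hk0
    rcases AR_split h1 with ⟨-, hb⟩ | ⟨hb, -⟩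
    · exact S.not_TB' (TCl_PR (PR_mul_b hk)) hb
    · exact S.not_TB' (TCl_PR hk) hb
  prod_mem t ht a ha h := by
    obtain ⟨kp, ⟨d, hd, hp⟩, rfl⟩ := ht
    obtain ⟨k, hk, rfl⟩ := ha
    refine Or.inr ⟨kp * k, ?_, (map_mul S.phi kp k).symm⟩
    rw [Subgroup.coe_mul, hd]
    refine prod_AR S hp hk ?_
    have h' := h.eq
    rw [← map_mul, ← map_mul] at h'
    have h2 := S.phi_eq.1 h'.symm
    rw [Subgroup.coe_mul, Subgroup.coe_mul, hd] at h2
    exact h2

theorem Hyp.card_AX [Finite G] : 960 ≤ S.AX.ncard := by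
  have := finite_RG
  have hidx : 960 ≤ (Sa).index := by
    have e := Subgroup.card_mul_index Sa
    rw [card_KK] at e
    have := card_Sa_le
    nlinarith [e, this]
  refine hidx.trans ?_
  rw [Subgroup.index_eq_card, ← Nat.card_coe_set_eq]
  refine Nat.card_le_card_of_injective (fun q : KK ⧸ Sa => (⟨S.phi (q.out * ⟨aR, aR_mem⟩ * q.out⁻¹),
    ⟨_, ⟨_, q.out.2, Or.inl rfl⟩, rfl⟩⟩ : S.AX)) ?_
  intro q r e
  rw [← QuotientGroup.out_eq' q, ← QuotientGroup.out_eq' r, mem_Sa]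
  rcases S.phi_eq.1 (congrArg Subtype.val e) with h | h
  · exact h.symm
  · exfalso
    simp only [Subgroup.coe_mul, Subgroup.coe_inv] at h
    rw [conj_mul_b q.out.2] at h
    exact S.not_TB' (TCl_aR.conj _) (h ▸ BCl_ab.conj _)

end Cfsg.Agent.HNRec.Global
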