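import Cfsg.Agent.HNRec.Global.Rel
import Cfsg.Agent.HNRec.Global.Code

/-!
Generators of the extraspecial group in the presented group, their relations and the action of
three elements on them.
-/

set_option autoImplicit false
set_option maxRecDepth 100000

namespace Cfsg.Agent.HNRec.Global

open Cfsg.Agent.CosetCert Data

/-- The central involution. -/
noncomputable def bR : RG := W bW

/-- The generators: seven in the model and the conjugate of the first under `s`. -/
noncomputable def eR (i : ℕ) : RG :=
  cond (Nat.beq i 7) (sE * W (eW.getD 0 []) * sE) (W (eW.getD i []))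

/-- The squares and commutators. -/
def FF : Forms where
  q i := qMask.testBit i
  c i j := (cMask.getD i 0).testBit j

/-- The element of a code. -/
noncomputable abbrev el (v : ℕ) : RG := elt eR bR v

/-- The word in the model of a code below the last generator. -/
def Hw (v : ℕ) : List ℕ :=
  ((List.range 7).flatMap fun i => cond (v.testBit i) (eW.getD i []) []) ++ cond (v.testBit 8) bW []

/-- A product of the five elements of the model. -/
def dP (l : List ℕ) : List ℕ := l.flatMap fun k => dW.getD k []

/-- Its conjugate under `s`. -/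
def sP (l : List ℕ) : List ℕ := l.flatMap fun k => sdW.getD k []

theorem W_nil : W [] = 1 := by simp [W, hE]

theorem eR_low {i : ℕ} (h : i < 7) : eR i = W (eW.getD i []) := by
  rw [eR, show Nat.beq i 7 = false by rw [← Bool.not_eq_true, Nat.beq_eq]; omega, cond_false]

theorem eR_seven : eR 7 = sE * W (eW.getD 0 []) * sE := rfl

theorem el_low {v : ℕ} (h : v.testBit 7 = false) : el v = W (Hw v) := by
  have hn : ∀ n ≤ 7, valN eR v n =
      W ((List.range n).flatMap fun i => cond (v.testBit i) (eW.getD i []) []) := by
    intro n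
    induction n with
    | zero => intro; simp [valN, W_nil]
    | succ n ih =>
      intro hn
      rw [valN, List.range_succ, List.flatMap_append, W_append, ih (by omega)]
      congr 1
      cases hv : v.testBit n
      · simp [hv, W_nil]
      · simp [hv, eR_low (show n < 7 by omega)]
  rw [el, elt, valN, h, cond_false, mul_one, hn 7 le_rfl, Hw, W_append]
  congr 1
  cases v.testBit 8
  · exact W_nil.symm
  · rfl

theorem conj_cancel {G : Type*} [Group G] {s : G} (h : s * s = 1) (x y : G) :
    s * x * s * (s * y * s) = s * (x * y) * s := by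
  rw [show s * x * s * (s * y * s) = s * x * (s * s) * y * s by group, h, mul_one]; group

theorem sd_word : ∀ {l : List ℕ}, l.all (Nat.blt · 5) = true → sE * W (dP l) * sE = W (sP l)
  | [], _ => by simp [dP, sP, W_nil, sE_sq]
  | k :: l, h => by
    rw [List.all_cons, Bool.and_eq_true, Nat.blt_eq] at h
    rw [show dP (k :: l) = dW.getD k [] ++ dP l from rfl, show sP (k :: l) = sdW.getD k [] ++ sP l from rfl,
      W_append, W_append, ← sd_all k h.1, ← sd_word h.2, conj_cancel sE_sq]

theorem bR_sq : bR * bR = 1 := by
  rw [bR, ← W_append, ← W_nil]; exact W_same (by decide +kernel)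

theorem bR_ne : bR ≠ 1 := by
  rw [bR, ← W_nil]; exact W_diff (by decide +kernel)

theorem s_conj {x : RG} (y : RG) (h : sE * x * sE = y) : sE * y * sE = x := by
  rw [← h, show sE * (sE * x * sE) * sE = (sE * sE) * x * (sE * sE) by group, sE_sq]; group

theorem bR_s : sE * bR * sE = bR := by
  have e1 : bR = W (dP bD) := W_same (by decide +kernel)
  have e2 : bR = W (sP bD) := W_same (by decide +kernel)
  conv_lhs => rw [e1, sd_word (by decide +kernel)]
  exact e2.symm

/-- The middle generators lie among the products of the five elements. -/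
theorem eR_mid {i : ℕ} (h1 : 1 ≤ i) (h : i < 7) :
    eR i = W (dP (eD.getD (i - 1) [])) ∧ sE * eR i * sE = W (sP (eD.getD (i - 1) [])) := by
  have hc : sameW (eW.getD i []) (dP (eD.getD (i - 1) [])) = true ∧
      (eD.getD (i - 1) []).all (Nat.blt · 5) = true := by
    interval_cases i <;> exact ⟨by decide +kernel, by decide +kernel⟩
  have e : eR i = W (dP (eD.getD (i - 1) [])) := (eR_low h).trans (W_same hc.1)
  exact ⟨e, by rw [e, sd_word hc.2]⟩

theorem eR0_sq : W (eW.getD 0 []) * W (eW.getD 0 []) = 1 := by
  rw [← W_append, ← W_nil]; exact W_same (by decide +kernel)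

theorem sigma_W (x : Bool) : cond x bR 1 = W (cond x bW []) := by
  cases x
  · exact W_nil.symm
  · rfl

theorem holds : FF.Holds eR bR := by
  refine ⟨bR_sq, ?_, ?_, ?_⟩
  · intro i hi
    by_cases h7 : i < 7
    · rw [eR_low h7, bR, ← W_append, ← W_append]
      apply W_same
      interval_cases i <;> decide +kernel
    · obtain rfl : i = 7 := by omega
      have h0 : W (eW.getD 0 []) * bR = bR * W (eW.getD 0 []) := by
        rw [bR, ← W_append, ← W_append]; exact W_same (by decide +kernel)
      calc eR 7 * bR = sE * W (eW.getD 0 []) * sE * (sE * bR * sE) := by rw [bR_s, eR_seven]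
        _ = sE * bR * sE * (sE * W (eW.getD 0 []) * sE) := by
          rw [conj_cancel sE_sq, conj_cancel sE_sq, h0]
        _ = bR * eR 7 := by rw [bR_s, eR_seven]
  · intro i hi
    by_cases h7 : i < 7
    · rw [eR_low h7, ← W_append, sigma_W]
      apply W_same
      interval_cases i <;> decide +kernel
    · obtain rfl : i = 7 := by omega
      rw [eR_seven, conj_cancel sE_sq, eR0_sq, mul_one, sE_sq, show FF.q 7 = false by decide +kernel,
        cond_false]
  · intro i hi j hj
    by_cases h7 : i < 7
    · rw [eR_low h7, eR_low (by omega : j < 7), sigma_W, ← W_append, ← W_append, ← W_append]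
      apply W_same
      interval_cases i <;> interval_cases j <;> decide +kernel
    · obtain rfl : i = 7 := by omega
      by_cases h0 : j = 0
      · subst h0
        have h := ev9_one (w := rel5) (by decide +kernel) rel5_ok
        rw [show rel5 = cvW (eW.getD 0 []) ++ [8] ++ cvW (eW.getD 0 []) ++ [8] ++ cvW (eW.getD 0 []) ++
            [8] ++ cvW (eW.getD 0 []) ++ [8] by decide +kernel] at h
        simp only [ev9_append, ev9_s, ev9_cvW (w := eW.getD 0 []) (by decide +kernel)] at h
        rw [show FF.c 7 0 = false by decide +kernel, cond_false, mul_one, eR_seven, eR_low (i := 0) (by norm_num)]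
        set e := W (eW.getD 0 [])
        have hA : (sE * e * sE)⁻¹ = sE * e * sE := by
          rw [mul_inv_rev, mul_inv_rev, sE_inv, inv_eq_of_mul_eq_one_right eR0_sq, mul_assoc]
        have h' : e * (sE * e * sE) * e * (sE * e * sE) = 1 := by
          rw [← h]; simp only [W, mul_assoc]; rfl
        calc sE * e * sE * e = (e * (sE * e * sE) * e * (sE * e * sE))⁻¹ * (e * (sE * e * sE)) *
              (e * (sE * e * sE) * e * (sE * e * sE))⁻¹ * 1 := by
              rw [h', inv_one, one_mul, mul_one, mul_one]
              have : e * (sE * e * sE) = (e * (sE * e * sE))⁻¹ := by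
                apply eq_inv_of_mul_eq_one_left
                rw [← h']; group
              rw [this, mul_inv_rev, hA, inv_eq_of_mul_eq_one_right eR0_sq]
          _ = e * (sE * e * sE) := by rw [h']; group
      · obtain ⟨-, hs⟩ := eR_mid (show 1 ≤ j by omega) hj
        rw [eR_seven]
        have hc : W (eW.getD 0 []) * W (sP (eD.getD (j - 1) [])) =
            W (sP (eD.getD (j - 1) [])) * W (eW.getD 0 []) * cond (FF.c 7 j) bR 1 := by
          rw [sigma_W, ← W_append, ← W_append, ← W_append]
          apply W_same
          interval_cases j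
          all_goals first | decide +kernel | exact absurd rfl h0
        conv_lhs => rw [← s_conj _ hs, conj_cancel sE_sq, hc]
        conv_rhs => rw [← s_conj _ hs, conj_cancel sE_sq]
        cases FF.c 7 j
        · simp
        · simp only [cond_true]
          conv_rhs => rw [← bR_s]
          rw [conj_cancel sE_sq]

/-- Conjugation by `s`. -/
theorem s_act : ∀ i < 8, sE * eR i * sE⁻¹ = el (sImg.getD i 0) := by
  intro i hi
  rw [sE_inv]
  rcases (by omega : i = 0 ∨ i = 7 ∨ (1 ≤ i ∧ i < 7)) with rfl | rfl | ⟨h1, h7⟩
  · rw [show sImg.getD 0 0 = 2 ^ 7 by decide +kernel, el, holds.elt_two_pow (by norm_num),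
      eR_seven, eR_low (i := 0) (by norm_num)]
  · rw [show sImg.getD 7 0 = 2 ^ 0 by decide +kernel, el, holds.elt_two_pow (by norm_num),
      eR_seven, eR_low (i := 0) (by norm_num)]
    exact s_conj _ rfl
  · rw [(eR_mid h1 h7).2]
    interval_cases i
    all_goals
      rw [el_low (by decide +kernel)]
      exact W_same (by decide +kernel)

theorem act_low {u : List ℕ} (hu : u.all (Nat.blt · 6) = true) (img : List ℕ)
    (h : ((List.range 7).all fun i => sameW (u ++ eW.getD i []) (Hw (img.getD i 0) ++ u) &&
      !((img.getD i 0).testBit 7)) = true) : ∀ i < 7, W u * eR i * (W u)⁻¹ = el (img.getD i 0) := by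
  intro i hi
  have h' := List.all_eq_true.mp h i (List.mem_range.2 hi)
  rw [Bool.and_eq_true, Bool.not_eq_true'] at h'
  rw [mul_inv_eq_iff_eq_mul, eR_low hi, el_low h'.2, ← W_append, ← W_append]
  exact W_same h'.1

theorem act_seven {u h : List ℕ} {rel : List ℕ} (hu : u.all (Nat.blt · 6) = true)
    (hh : h.all (Nat.blt · 6) = true) (hrel : ev9 rel = 1)
    (he : rel = cvW u ++ [8] ++ cvW (eW.getD 0 []) ++ [8] ++ cvW (inv6 u) ++ [8] ++
      cvW (eW.getD 0 []) ++ [8] ++ cvW (inv6 h))
    {v w : ℕ} (hv : v.testBit 7 = false) (hw : stepC FF v 7 = w) (hs : sameW h (Hw v) = true) :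
    W u * eR 7 * (W u)⁻¹ = el w := by
  rw [he] at hrel
  simp only [ev9_append, ev9_s, ev9_cvW hu, ev9_inv6 hu, ev9_inv6 hh,
    ev9_cvW (w := eW.getD 0 []) (by decide +kernel)] at hrel
  rw [← hw, el, holds.elt_stepC v (by norm_num), show elt eR bR v = W h from (el_low hv).trans (W_same hs).symm,
    eR_seven]
  set e := W (eW.getD 0 [])
  have hA : (sE * e * sE)⁻¹ = sE * e * sE := by
    rw [mul_inv_rev, mul_inv_rev, sE_inv, inv_eq_of_mul_eq_one_right eR0_sq, mul_assoc]
  have h2 : (W u * (sE * e * sE) * (W u)⁻¹) * ((sE * e * sE) * (W h)⁻¹) = 1 := by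
    rw [← hrel]; simp only [W, mul_assoc]; rfl
  rw [eq_inv_of_mul_eq_one_left h2, mul_inv_rev, inv_inv, hA]

theorem u_act : ∀ i < 8, W uW * eR i * (W uW)⁻¹ = el (uImg.getD i 0) := by
  intro i hi
  rcases (by omega : i < 7 ∨ i = 7) with h | rfl
  · exact act_low (by decide +kernel) _ (by decide +kernel) i h
  · exact act_seven (h := uH) (by decide +kernel) (by decide +kernel)
      (ev9_one (w := rel6) (by decide +kernel) rel6_ok) (by decide +kernel)
      (v := uImg.getD 7 0 ^^^ 128) (by decide +kernel) (by decide +kernel) (by decide +kernel)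

theorem v_act : ∀ i < 8, W vW * eR i * (W vW)⁻¹ = el (vImg.getD i 0) := by
  intro i hi
  rcases (by omega : i < 7 ∨ i = 7) with h | rfl
  · exact act_low (by decide +kernel) _ (by decide +kernel) i h
  · exact act_seven (h := vH) (by decide +kernel) (by decide +kernel)
      (ev9_one (w := rel7) (by decide +kernel) rel7_ok) (by decide +kernel)
      (v := vImg.getD 7 0 ^^^ 128) (by decide +kernel) (by decide +kernel) (by decide +kernel)

theorem uv_b : W uW * bR = bR * W uW ∧ W vW * bR = bR * W vW := by
  constructor <;> rw [bR, ← W_append, ← W_append] <;> exact W_same (by decide +kernel)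

theorem el_comm_b (c : ℕ) : el c * bR = bR * el c := by
  have h : ∀ n ≤ 8, Commute (valN eR c n) bR := by
    intro n
    induction n with
    | zero => intro; exact Commute.one_left _
    | succ n ih =>
      intro hn
      refine (ih (by omega)).mul_left ?_
      cases c.testBit n
      exacts [Commute.one_left _, holds.b_comm n (by omega)]
  refine ((h 8 le_rfl).mul_left ?_).eq
  cases c.testBit 8
  exacts [Commute.one_left _, Commute.refl _]

theorem radical_check : allFrom (fun x => Nat.beq (x % 256) 0 ||
    (List.range 8).any fun j => Nat.beq (mulC FF (2 ^ j) x) (stepC FF x j ^^^ 256)) 0 512 = true := by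
  decide +kernel

/-- A code of a central element is zero modulo the sign. -/
theorem low_zero {x : ℕ} (hx : x < 512) (h : el x = 1 ∨ el x = bR) : x % 256 = 0 := by
  have hc := (allFrom_iff _ _ _).1 radical_check x (Nat.zero_le _) (by omega)
  simp only [Bool.or_eq_true, List.any_eq_true, List.mem_range, Nat.beq_eq] at hc
  rcases hc with hc | ⟨j, hj, he⟩
  · exact hc
  · exfalso
    have h1 : eR j * el x = el x * eR j := by
      rcases h with h | h <;> rw [h]
      · simp
      · exact holds.b_comm j hj
    have h2 := congrArg el he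
    simp only [el] at h2
    rw [holds.elt_mulC, holds.elt_two_pow hj, holds.elt_xor_256, holds.elt_stepC x hj] at h2
    change eR j * el x = el x * eR j * bR at h2
    rw [h1] at h2
    exact bR_ne (mul_eq_left.mp h2.symm)

theorem el_sign {x : ℕ} (h : x % 256 = 0) : el x = cond (x.testBit 8) bR 1 := by
  have : valN eR x 8 = valN eR 0 8 := valN_congr eR fun i hi => by
    have := congrArg (Nat.testBit · i) h
    simp only [show (256 : ℕ) = 2 ^ 8 from rfl, Nat.testBit_mod_two_pow, hi, decide_true, Bool.true_and] at this
    simpa using this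
  rw [el, elt, this]
  have h0 : valN eR 0 8 = (1 : RG) := by simp [valN]
  rw [h0, one_mul]

theorem sq_low (a : ℕ) : mulC FF a a % 256 = 0 := by rw [mulC_low, Nat.xor_self, Nat.zero_mod]

theorem mulC_lt {a c : ℕ} (ha : a < 512) : mulC FF a c < 512 := by
  have h9 : (512 : ℕ) = 2 ^ 9 := rfl
  have hx : ∀ {p q : ℕ}, p < 512 → q < 512 → p ^^^ q < 512 := fun hp hq => by
    rw [h9] at hp hq ⊢; exact Nat.xor_lt_two_pow hp hq
  refine hx ?_ (by cases c.testBit 8 <;> norm_num)
  suffices ∀ n ≤ 8, (Nat.rec (motive := fun _ => ℕ) a
      (fun j r => cond (c.testBit j) (stepC FF r j) r) n) < 512 from this 8 le_rfl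
  intro n
  induction n with
  | zero => exact fun _ => ha
  | succ n ih =>
    intro hn
    have hp : 2 ^ n < 512 := by
      have : 2 ^ n < 2 ^ 9 := Nat.pow_lt_pow_right (by norm_num) (by omega)
      simpa using this
    show cond (c.testBit n) _ _ < 512
    cases c.testBit n
    · exact ih (by omega)
    · simp only [cond_true, stepC]
      cases sgn FF _ n 8
      · exact hx (ih (by omega)) hp
      · exact hx (hx (ih (by omega)) hp) (by norm_num)

theorem el_inj {a c : ℕ} (ha : a < 512) (hc : c < 512) (h : el a = el c) : a = c := by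
  have h1 : el (mulC FF a c) = el (mulC FF a a) := by
    simp only [el, holds.elt_mulC]; rw [show elt eR bR c = elt eR bR a from h.symm]
  have hz : mulC FF a c % 256 = 0 := low_zero (mulC_lt ha) (by
    rw [h1, el_sign (sq_low a)]
    cases (mulC FF a a).testBit 8
    exacts [Or.inl rfl, Or.inr rfl])
  rw [mulC_low] at hz
  have hlow : ∀ i < 8, a.testBit i = c.testBit i := fun i hi => by
    have := congrArg (Nat.testBit · i) hz
    simp only [show (256 : ℕ) = 2 ^ 8 from rfl, Nat.testBit_mod_two_pow, hi, decide_true, Bool.true_and,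
      Nat.testBit_xor, Nat.zero_testBit] at this
    simpa using this
  have h8 : a.testBit 8 = c.testBit 8 := by
    have e := h
    simp only [el, elt] at e
    rw [valN_congr eR hlow] at e
    have e' := mul_left_cancel e
    revert e'
    cases a.testBit 8 <;> cases c.testBit 8 <;> intro e'
    · rfl
    · exact absurd e'.symm bR_ne
    · exact absurd e' bR_ne
    · rfl
  apply Nat.eq_of_testBit_eq
  intro i
  rcases (by omega : i < 8 ∨ i = 8 ∨ 9 ≤ i) with h | rfl | h
  · exact hlow i h
  · exact h8
  · rw [Nat.testBit_lt_two_pow (lt_of_lt_of_le ha (Nat.pow_le_pow_right (by norm_num) h : (2:ℕ)^9 ≤ 2^i)),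
      Nat.testBit_lt_two_pow (lt_of_lt_of_le hc (Nat.pow_le_pow_right (by norm_num) h : (2:ℕ)^9 ≤ 2^i))]

end Cfsg.Agent.HNRec.Global
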