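import Cfsg.Agent.DCoset.Emit
import Cfsg.Agent.HNRec.Global.Code
import Cfsg.Agent.HNRec.Global.Data.Image
import Cfsg.Agent.HNRec.Global.Data.Links
import Cfsg.Agent.HNRec.Global.Data.Small

/-!
The listed linear maps: closure under three generators, distinctness and conjugacy of involutions.
-/

set_option autoImplicit false
set_option maxRecDepth 100000

namespace Cfsg.Agent.HNRec.Global

open Cfsg.Agent.CosetCert Cfsg.Agent.DCoset Data

/-- The number of maps. -/
def nM : ℕ := 7200

/-- The map with a number. -/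
noncomputable def mA (i : ℕ) : ℕ :=
  force (mS.get (Nat.div i 32)) fun v => Nat.mod (Nat.shiftRight v (Nat.mul 64 (Nat.mod i 32))) 18446744073709551616

/-- Left product with a generator. -/
noncomputable def nx (g i : ℕ) : ℕ := get16 nxtS (Nat.add (Nat.mul g 7200) i)

/-- A packed map from the images of the basis. -/
def packImg (l : List ℕ) : ℕ :=
  (List.range 8).foldr (fun j r => (l.getD j 0 % 256) + 256 * r) 0

/-- The maps of the three generators. -/
def gM (g : ℕ) : ℕ := packImg ([sImg, uImg, vImg].getD g [])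

/-- Two maps composed agree with a third on the basis. -/
noncomputable def compB (m1 m2 m3 : ℕ) : Bool :=
  allFrom (fun j => force (Nat.pow 2 j) fun e => Nat.beq (la m3 e) (la m1 (la m2 e))) 0 8

theorem la_succ (m v n : ℕ) :
    (Nat.rec (motive := fun _ => ℕ) 0
      (fun j r => cond (v.testBit j) (r ^^^ (Nat.shiftRight m (Nat.mul 8 j) % 256)) r) (n + 1)) =
    cond (v.testBit n)
      ((Nat.rec (motive := fun _ => ℕ) 0
        (fun j r => cond (v.testBit j) (r ^^^ (Nat.shiftRight m (Nat.mul 8 j) % 256)) r) n) ^^^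
          (Nat.shiftRight m (Nat.mul 8 n) % 256))
      (Nat.rec (motive := fun _ => ℕ) 0
        (fun j r => cond (v.testBit j) (r ^^^ (Nat.shiftRight m (Nat.mul 8 j) % 256)) r) n) := rfl

theorem la_xor (m v w : ℕ) : la m (v ^^^ w) = la m v ^^^ la m w := by
  rw [la, la, la]
  suffices ∀ n : ℕ, (Nat.rec (motive := fun _ => ℕ) 0
      (fun j r => cond ((v ^^^ w).testBit j) (r ^^^ (Nat.shiftRight m (Nat.mul 8 j) % 256)) r) n) =
      (Nat.rec (motive := fun _ => ℕ) 0
      (fun j r => cond (v.testBit j) (r ^^^ (Nat.shiftRight m (Nat.mul 8 j) % 256)) r) n) ^^^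
      (Nat.rec (motive := fun _ => ℕ) 0
      (fun j r => cond (w.testBit j) (r ^^^ (Nat.shiftRight m (Nat.mul 8 j) % 256)) r) n) from this 8
  intro n
  induction n with
  | zero => simp
  | succ n ih =>
    rw [la_succ, la_succ, la_succ, ih, Nat.testBit_xor]
    cases v.testBit n <;> cases w.testBit n <;>
      simp [Nat.xor_assoc, Nat.xor_comm, Nat.xor_left_comm]

theorem la_lt (m v : ℕ) : la m v < 256 := by
  rw [la]
  suffices ∀ n : ℕ, (Nat.rec (motive := fun _ => ℕ) 0
      (fun j r => cond (v.testBit j) (r ^^^ (Nat.shiftRight m (Nat.mul 8 j) % 256)) r) n) < 256 from this 8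
  intro n
  induction n with
  | zero => norm_num
  | succ n ih =>
    rw [la_succ]
    cases v.testBit n
    · exact ih
    · exact Nat.xor_lt_two_pow (n := 8) ih (Nat.mod_lt _ (by norm_num))

theorem la_congr (m : ℕ) {v w : ℕ} (h : ∀ i < 8, v.testBit i = w.testBit i) : la m v = la m w := by
  rw [la, la]
  suffices ∀ n ≤ 8, (Nat.rec (motive := fun _ => ℕ) 0
      (fun j r => cond (v.testBit j) (r ^^^ (Nat.shiftRight m (Nat.mul 8 j) % 256)) r) n) =
    (Nat.rec (motive := fun _ => ℕ) 0
      (fun j r => cond (w.testBit j) (r ^^^ (Nat.shiftRight m (Nat.mul 8 j) % 256)) r) n) from this 8 le_rfl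
  intro n
  induction n with
  | zero => intro; rfl
  | succ n ih => intro hn; rw [la_succ, la_succ, ih (by omega), h n (by omega)]

theorem la_mod (m v : ℕ) : la m (v % 256) = la m v :=
  la_congr m fun i hi => by
    rw [show (256 : ℕ) = 2 ^ 8 from rfl, Nat.testBit_mod_two_pow, decide_eq_true hi, Bool.true_and]

theorem la_zero (m : ℕ) : la m 0 = 0 := by
  have h := la_xor m 0 0
  rwa [Nat.xor_self, Nat.xor_self] at h

/-- Two linear functions agreeing on the basis agree. -/
theorem lin_ext {f g : ℕ → ℕ} (hf : ∀ v w, f (v ^^^ w) = f v ^^^ f w)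
    (hg : ∀ v w, g (v ^^^ w) = g v ^^^ g w) (h : ∀ j < 8, f (2 ^ j) = g (2 ^ j)) :
    ∀ v < 256, f v = g v := by
  suffices ∀ n ≤ 8, ∀ v < 2 ^ n, f v = g v from this 8 le_rfl
  intro n
  induction n with
  | zero =>
    intro _ v hv
    obtain rfl : v = 0 := by simpa using hv
    have hf0 := hf 0 0
    have hg0 := hg 0 0
    rw [Nat.xor_self, Nat.xor_self] at hf0 hg0
    rw [hf0, hg0]
  | succ n ih =>
    intro hn v hv
    rcases Nat.lt_or_ge v (2 ^ n) with hlt | hge
    · exact ih (by omega) v hlt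
    · have hlt : v ^^^ 2 ^ n < 2 ^ n := by
        apply Nat.lt_pow_two_of_testBit
        intro i hi
        rw [Nat.testBit_xor, Nat.testBit_two_pow]
        rcases Nat.lt_or_ge n i with h1 | h1
        · rw [Nat.testBit_lt_two_pow (lt_of_lt_of_le hv (Nat.pow_le_pow_right (by norm_num) h1))]
          simp [show n ≠ i by omega]
        · obtain rfl : i = n := by omega
          simp [Nat.testBit_of_two_pow_le_and_two_pow_add_one_gt hge hv]
      rw [show v = (v ^^^ 2 ^ n) ^^^ 2 ^ n by rw [Nat.xor_assoc, Nat.xor_self, Nat.xor_zero],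
        hf, hg, ih (by omega) _ hlt, h n (by omega)]

theorem compB_spec {m1 m2 m3 : ℕ} (h : compB m1 m2 m3 = true) (v : ℕ) :
    la m3 v = la m1 (la m2 v) := by
  rw [← la_mod m3, ← la_mod m2]
  refine lin_ext (f := la m3) (g := fun v => la m1 (la m2 v)) (la_xor m3)
    (fun v w => by simp only [la_xor]) (fun j hj => ?_) _ (Nat.mod_lt _ (by norm_num))
  have := (allFrom_iff _ _ _).1 h j (Nat.zero_le _) (by omega)
  rw [force_eq] at this
  exact Nat.eq_of_beq_eq_true this

theorem la_byte (m : ℕ) {j : ℕ} (hj : j < 8) : la m (2 ^ j) = Nat.shiftRight m (Nat.mul 8 j) % 256 := by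
  rw [la]
  have : ∀ n ≤ 8, (Nat.rec (motive := fun _ => ℕ) 0
      (fun i r => cond ((2 ^ j).testBit i) (r ^^^ (Nat.shiftRight m (Nat.mul 8 i) % 256)) r) n) =
      if j < n then Nat.shiftRight m (Nat.mul 8 j) % 256 else 0 := by
    intro n
    induction n with
    | zero => intro; rfl
    | succ n ih =>
      intro hn
      rw [la_succ, ih (by omega), Nat.testBit_two_pow]
      rcases Nat.lt_trichotomy j n with h | rfl | h
      · simp [show j ≠ n by omega, h, show j < n + 1 by omega]
      · simp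
      · simp [show j ≠ n by omega, show ¬ j < n by omega, show ¬ j < n + 1 by omega]
  rw [this 8 le_rfl, if_pos hj]

/-- Maps below `2 ^ 64` are determined by their values. -/
theorem map_eq {m m' : ℕ} (hm : m < 2 ^ 64) (hm' : m' < 2 ^ 64)
    (h : ∀ v, la m v = la m' v) : m = m' := by
  apply Nat.eq_of_testBit_eq
  intro i
  rcases Nat.lt_or_ge i 64 with hi | hi
  · have e := congrArg (Nat.testBit · (i % 8)) (h (2 ^ (i / 8)))
    simp only [la_byte _ (show i / 8 < 8 by omega)] at e
    change (m >>> (8 * (i / 8)) % 256).testBit (i % 8) = (m' >>> (8 * (i / 8)) % 256).testBit (i % 8) at e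
    rw [show (256 : ℕ) = 2 ^ 8 from rfl, Nat.testBit_mod_two_pow, Nat.testBit_mod_two_pow,
      Nat.testBit_shiftRight, Nat.testBit_shiftRight, decide_eq_true (show i % 8 < 8 by omega),
      Bool.true_and, Bool.true_and, show 8 * (i / 8) + i % 8 = i by omega] at e
    exact e
  · rw [Nat.testBit_lt_two_pow (lt_of_lt_of_le hm (Nat.pow_le_pow_right (by norm_num) hi)),
      Nat.testBit_lt_two_pow (lt_of_lt_of_le hm' (Nat.pow_le_pow_right (by norm_num) hi))]

theorem nx_check : allFrom (fun g => allFrom (fun i => force (nx g i) fun k =>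
    gate (Nat.blt k 7200) (compB (gM g) (mA i) (mA k))) 0 7200) 0 3 = true := by decide +kernel

theorem nx_spec {g i : ℕ} (hg : g < 3) (hi : i < nM) :
    nx g i < nM ∧ ∀ v, la (mA (nx g i)) v = la (gM g) (la (mA i) v) := by
  have h := (allFrom_iff _ _ _).1 ((allFrom_iff _ _ _).1 nx_check g (Nat.zero_le _) (by omega)) i
    (Nat.zero_le _) (by rw [nM] at hi; omega)
  simp only [force_eq, gate_eq, Bool.and_eq_true] at h
  exact ⟨by rw [nM]; exact Nat.blt_eq.mp h.1, compB_spec h.2⟩

theorem par_check : allFrom (fun i => force (get16 parS i) fun p =>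
    gate (Nat.blt (Nat.div p 7200) 3) (gate (Nat.blt (Nat.mod p 7200) i)
      (Nat.beq (nx (Nat.div p 7200) (Nat.mod p 7200)) i))) 1 7199 = true := by decide +kernel

theorem par_spec {i : ℕ} (h0 : i ≠ 0) (hi : i < nM) :
    ∃ g < 3, ∃ p < i, nx g p = i := by
  have h := (allFrom_iff _ _ _).1 par_check i (by omega) (by rw [nM] at hi; omega)
  simp only [force_eq, gate_eq, Bool.and_eq_true] at h
  exact ⟨_, Nat.blt_eq.mp h.1, _, Nat.blt_eq.mp h.2.1, Nat.eq_of_beq_eq_true h.2.2⟩

theorem id_check : allFrom (fun j => Nat.beq (la (mA 0) (Nat.pow 2 j)) (Nat.pow 2 j)) 0 8 = true := by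
  decide +kernel

theorem mA_lt (i : ℕ) : mA i < 2 ^ 64 := by
  rw [mA, force_eq]
  exact Nat.mod_lt _ (by norm_num)

theorem ord_check : allFrom (fun j => force (get16 ordS j) fun a => gate (Nat.blt a 7200)
    (gate (Nat.beq j 7199 || Nat.blt (mA a) (mA (get16 ordS (Nat.succ j)))) true)) 0 7200 = true := by
  decide +kernel

theorem mA_inj {i k : ℕ} (hi : i < nM) (hk : k < nM) (h : mA i = mA k) : i = k := by
  rw [nM] at hi hk
  have hc : ∀ j < 7200, get16 ordS j < 7200 ∧ (j < 7199 → mA (get16 ordS j) < mA (get16 ordS (j + 1))) := by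
    intro j hj
    have := (allFrom_iff _ _ _).1 ord_check j (Nat.zero_le _) (by omega)
    simp only [force_eq, gate_eq, Bool.and_eq_true, Bool.or_eq_true, Bool.and_true] at this
    refine ⟨Nat.blt_eq.mp this.1, fun hl => ?_⟩
    rcases this.2 with e | e
    · exact absurd (Nat.eq_of_beq_eq_true e) (by omega)
    · exact Nat.blt_eq.mp e
  let f : Fin 7200 → Fin 7200 := fun j => ⟨get16 ordS j, (hc j j.2).1⟩
  have hmono : StrictMono fun j : Fin 7200 => mA (f j) := by
    have : ∀ d j, j + d + 1 < 7200 → mA (get16 ordS j) < mA (get16 ordS (j + d + 1)) := by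
      intro d
      induction d with
      | zero => intro j hj; exact (hc j (by omega)).2 (by omega)
      | succ d ih =>
        intro j hj
        exact (ih j (by omega)).trans ((hc (j + d + 1) (by omega)).2 (by omega))
    intro a c hac
    have := this (c.1 - a.1 - 1) a.1 (by have := c.2; have : a.1 < c.1 := hac; omega)
    rwa [show a.1 + (c.1 - a.1 - 1) + 1 = c.1 by have : a.1 < c.1 := hac; omega] at this
  have hb : Function.Bijective f := by
    rw [Fintype.bijective_iff_injective_and_card]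
    exact ⟨fun a c e => hmono.injective (congrArg mA (congrArg Fin.val e) : mA (f a) = mA (f c)), rfl⟩
  obtain ⟨a, ha⟩ := hb.2 ⟨i, hi⟩
  obtain ⟨c, hcc⟩ := hb.2 ⟨k, hk⟩
  have : a = c := hmono.injective (by show mA (f a) = mA (f c); rw [ha, hcc]; exact h)
  subst this
  rw [ha] at hcc
  exact congrArg Fin.val hcc

theorem la_one (v : ℕ) : la (mA 0) v = v % 256 := by
  rw [← la_mod]
  refine lin_ext (g := id) (la_xor _) (fun _ _ => rfl) (fun j hj => ?_) _ (Nat.mod_lt _ (by norm_num))
  exact Nat.eq_of_beq_eq_true ((allFrom_iff _ _ _).1 id_check j (Nat.zero_le _) (by omega))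

/-- The class of an involution and the number of a conjugator. -/
noncomputable def cjCls (i : ℕ) : ℕ := Nat.mod (get16 conjS i) 4
/-- The conjugator. -/
noncomputable def cjJ (i : ℕ) : ℕ := Nat.div (get16 conjS i) 4

/-- The map of a representative. -/
noncomputable def clsM (c : ℕ) : ℕ := mA (clsIdx.getD c 0)

theorem invol_check : allFrom (fun i => !(compB (mA i) (mA i) (mA 0)) ||
    gate (Nat.blt (cjCls i) 3) (gate (Nat.blt (cjJ i) 7200)
      (allFrom (fun j => force (Nat.pow 2 j) fun e =>
        Nat.beq (la (mA (cjJ i)) (la (mA i) e)) (la (clsM (cjCls i)) (la (mA (cjJ i)) e))) 0 8))) 1 7199 = true := by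
  decide +kernel

theorem invol_class {i : ℕ} (h0 : i ≠ 0) (hi : i < nM) (h : ∀ v, la (mA i) (la (mA i) v) = v % 256) :
    ∃ j < nM, ∃ c < 3, ∀ v, la (mA j) (la (mA i) v) = la (clsM c) (la (mA j) v) := by
  have hb : compB (mA i) (mA i) (mA 0) = true := by
    rw [compB, allFrom_iff]
    intro j _ _
    rw [force_eq, Nat.beq_eq, la_one, h]
  have hh := (allFrom_iff _ _ _).1 invol_check i (by omega) (by rw [nM] at hi; omega)
  rw [hb, Bool.not_true, Bool.false_or, gate_eq, gate_eq, Bool.and_eq_true, Bool.and_eq_true] at hh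
  refine ⟨cjJ i, by rw [nM]; exact Nat.blt_eq.mp hh.2.1, cjCls i, Nat.blt_eq.mp hh.1, fun v => ?_⟩
  have hj := fun j hj => (allFrom_iff _ _ _).1 hh.2.2 j (Nat.zero_le _) (show j < 0 + 8 by omega)
  simp only [force_eq] at hj
  rw [← la_mod (mA i), ← la_mod (mA (cjJ i)) v]
  exact lin_ext (f := fun v => la (mA (cjJ i)) (la (mA i) v))
    (g := fun v => la (clsM (cjCls i)) (la (mA (cjJ i)) v))
    (fun v w => by simp only [la_xor]) (fun v w => by simp only [la_xor])
    (fun j hj' => Nat.eq_of_beq_eq_true (hj j hj')) _ (Nat.mod_lt _ (by norm_num))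

end Cfsg.Agent.HNRec.Global
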