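import Cfsg.Agent.HNRec.Global.Gens
import Cfsg.Agent.HNRec.Global.Image
import Cfsg.Agent.HNRec.Global.Count

/-!
The subgroup normalising the extraspecial group: its order and its action.
-/

set_option autoImplicit false
set_option maxRecDepth 100000

namespace Cfsg.Agent.HNRec.Global

open Cfsg.Agent.CosetCert Data

theorem finite_RG : Finite RG := Nat.finite_of_card_ne_zero (by
  rw [(Cfsg.Agent.S1701.result).2]; norm_num)

/-- The central involution of the model. -/
noncomputable def tR : RG := W [0, 0]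

/-- The three outer generators. -/
noncomputable def gen3 (g : ℕ) : RG := cond (Nat.beq g 0) sE (cond (Nat.beq g 1) (W uW) (W vW))

/-- The generators. -/
noncomputable def kkGens : Set RG := {x | (∃ g < 3, x = gen3 g) ∨ ∃ c, x = el c}

/-- The subgroup. -/
noncomputable def KK : Subgroup RG := Subgroup.closure kkGens

theorem el_mem (c : ℕ) : el c ∈ KK := Subgroup.subset_closure (Or.inr ⟨c, rfl⟩)

theorem gen3_mem {g : ℕ} (h : g < 3) : gen3 g ∈ KK := Subgroup.subset_closure (Or.inl ⟨g, h, rfl⟩)

/-- Conjugation by `k` induces the map `m` modulo the centre. -/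
def Act (k : RG) (m : ℕ) : Prop := ∀ c, ∃ d, k * el c * k⁻¹ = el d ∧ d % 256 = la m c

theorem el_congr {a c : ℕ} (h : a % 512 = c % 512) : el a = el c := by
  have hb : ∀ i < 9, a.testBit i = c.testBit i := fun i hi => by
    have := congrArg (Nat.testBit · i) h
    simp only [show (512 : ℕ) = 2 ^ 9 from rfl, Nat.testBit_mod_two_pow, hi, decide_true, Bool.true_and] at this
    exact this
  simp only [el, elt]
  rw [ valN_congr eR fun i hi => hb i (by omega), hb 8 (by norm_num)]

theorem el_low_inj {a c : ℕ} (h : el a = el c) : a % 256 = c % 256 := by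
  have := el_inj (Nat.mod_lt a (by norm_num)) (Nat.mod_lt c (by norm_num))
    (((el_congr (by rw [Nat.mod_mod])).trans h).trans (el_congr (by rw [Nat.mod_mod])))
  omega

theorem el_inv (a : ℕ) : ∃ a', (el a)⁻¹ = el a' ∧ a' % 256 = a % 256 := by
  refine ⟨a ^^^ cond ((mulC FF a a).testBit 8) 256 0, ?_, ?_⟩
  · simp only [el]
    rw [holds.elt_xor_sign]
    apply inv_eq_of_mul_eq_one_right
    rw [← mul_assoc, ← holds.elt_mulC, show elt eR bR (mulC FF a a) = el (mulC FF a a) from rfl,
      el_sign (sq_low a)]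
    cases (mulC FF a a).testBit 8 <;> simp [bR_sq]
  · exact mod_256_eq fun i hi => by
      cases (mulC FF a a).testBit 8 <;> simp [Nat.testBit_xor, testBit_256 hi]

theorem act_el (a : ℕ) : Act (el a) (mA 0) := by
  intro c
  obtain ⟨a', ha, hl⟩ := el_inv a
  refine ⟨mulC FF (mulC FF a c) a', ?_, ?_⟩
  · rw [ha, el, el, el, el, holds.elt_mulC, holds.elt_mulC]
  · rw [mulC_low, la_one]
    refine mod_256_eq fun i hi => ?_
    have h1 := congrArg (Nat.testBit · i) (mulC_low FF a c)
    have h2 := congrArg (Nat.testBit · i) hl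
    simp only [show (256 : ℕ) = 2 ^ 8 from rfl, Nat.testBit_mod_two_pow, hi, decide_true, Bool.true_and,
      Nat.testBit_xor] at h1 h2 ⊢
    rw [h1, h2]
    cases a.testBit i <;> cases c.testBit i <;> rfl

theorem img_check : allFrom (fun g => allFrom (fun j =>
    Nat.beq ((([sImg, uImg, vImg].getD g []).getD j 0) % 256) (Nat.shiftRight (gM g) (Nat.mul 8 j) % 256)) 0 8) 0 3 = true := by
  decide +kernel

theorem act_gen {g : ℕ} (hg : g < 3) : Act (gen3 g) (gM g) := by
  have himg : ∀ i < 8, gen3 g * eR i * (gen3 g)⁻¹ = el (([sImg, uImg, vImg].getD g []).getD i 0) := by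
    interval_cases g
    exacts [s_act, u_act, v_act]
  have hb : gen3 g * bR * (gen3 g)⁻¹ = bR := by
    rw [mul_inv_eq_iff_eq_mul]
    interval_cases g
    · show sE * bR = bR * sE
      calc sE * bR = sE * bR * (sE * sE) := by rw [sE_sq, mul_one]
        _ = sE * bR * sE * sE := by group
        _ = _ := by rw [bR_s]
    exacts [uv_b.1, uv_b.2]
  intro c
  refine ⟨actC FF (fun i => ([sImg, uImg, vImg].getD g []).getD i 0) c,
    holds.conj_elt hb himg c, ?_⟩
  rw [actC_low FF _ (gM g) (fun j hj => Nat.eq_of_beq_eq_true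
    ((allFrom_iff _ _ _).1 ((allFrom_iff _ _ _).1 img_check g (Nat.zero_le _) (by omega)) j (Nat.zero_le _) (by omega))) c,
    Nat.mod_eq_of_lt (la_lt _ _)]

theorem act_mul {k l : RG} {m n r : ℕ} (hk : Act k m) (hl : Act l n)
    (h : ∀ v, la r v = la m (la n v)) : Act (k * l) r := by
  intro c
  obtain ⟨d, hd, hdl⟩ := hl c
  obtain ⟨d', hd', hdl'⟩ := hk d
  refine ⟨d', ?_, ?_⟩
  · rw [← hd', ← hd]; group
  · rw [hdl', ← la_mod m d, hdl, h]

theorem act_uniq {k : RG} {m n : ℕ} (hm : Act k m) (hn : Act k n) (v : ℕ) : la m v = la n v := by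
  obtain ⟨d, hd, hdl⟩ := hm v
  obtain ⟨d', hd', hdl'⟩ := hn v
  rw [← hdl, ← hdl']
  exact el_low_inj (hd.symm.trans hd')

theorem exists_of : ∀ i < nM, ∃ k ∈ KK, Act k (mA i) := by
  intro i
  induction i using Nat.strong_induction_on with
  | _ i ih =>
    intro hi
    by_cases h0 : i = 0
    · subst h0; exact ⟨el 0, el_mem 0, act_el 0⟩
    · obtain ⟨g, hg, p, hp, he⟩ := par_spec h0 hi
      obtain ⟨k, hk, ha⟩ := ih p hp (by omega)
      exact ⟨gen3 g * k, mul_mem (gen3_mem hg) hk,
        act_mul (act_gen hg) ha fun v => by rw [← he]; exact (nx_spec hg (by omega)).2 v⟩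

theorem exists_index {k : RG} (hk : k ∈ KK) : ∃ i < nM, Act k (mA i) := by
  have := finite_RG
  rw [KK, ← Subgroup.mem_toSubmonoid, Subgroup.closure_toSubmonoid_of_finite] at hk
  induction hk using Submonoid.closure_induction_left with
  | one => exact ⟨0, by norm_num [nM], by simpa [el, elt, valN] using act_el 0⟩
  | mul_left x hx y _ ih =>
    obtain ⟨i, hi, hy⟩ := ih
    rcases hx with ⟨g, hg, rfl⟩ | ⟨c, rfl⟩
    · exact ⟨nx g i, (nx_spec hg hi).1, act_mul (act_gen hg) hy (nx_spec hg hi).2⟩
    · exact ⟨i, hi, act_mul (act_el c) hy fun v => by rw [la_one, Nat.mod_eq_of_lt (la_lt _ _)]⟩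

theorem index_uniq {k : RG} {i j : ℕ} (hi : i < nM) (hj : j < nM) (h1 : Act k (mA i)) (h2 : Act k (mA j)) :
    i = j :=
  mA_inj hi hj (map_eq (mA_lt i) (mA_lt j) (act_uniq h1 h2))

/-- A chosen element for a map. -/
noncomputable def kOf (i : ℕ) : RG :=
  if i = 0 then 1 else if h : i < nM then (exists_of i h).choose else 1

theorem kOf_spec {i : ℕ} (h : i < nM) : kOf i ∈ KK ∧ Act (kOf i) (mA i) := by
  rw [kOf]
  by_cases h0 : i = 0
  · subst h0
    rw [if_pos rfl]
    exact ⟨one_mem _, by simpa [el, elt, valN] using act_el 0⟩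
  · rw [if_neg h0, dif_pos h]; exact (exists_of i h).choose_spec

theorem card_ge : 3686400 ≤ Nat.card KK := by
  have := finite_RG
  let f : Fin nM × Fin 512 → KK := fun p =>
    ⟨kOf p.1 * el p.2, mul_mem (kOf_spec p.1.2).1 (el_mem _)⟩
  have hf : Function.Injective f := by
    rintro ⟨i, c⟩ ⟨j, d⟩ e
    have e' : kOf i * el c = kOf j * el d := congrArg Subtype.val e
    have h1 : Act (kOf i * el c) (mA i) :=
      act_mul (kOf_spec i.2).2 (act_el _) fun v => by rw [la_one, la_mod]
    have h2 : Act (kOf j * el d) (mA j) :=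
      act_mul (kOf_spec j.2).2 (act_el _) fun v => by rw [la_one, la_mod]
    have hij : (i : ℕ) = j := index_uniq i.2 j.2 h1 (e' ▸ h2)
    obtain rfl := Fin.ext hij
    obtain rfl := Fin.ext (el_inj c.2 d.2 (mul_left_cancel e'))
    rfl
  have := Nat.card_le_card_of_injective f hf
  simpa [nM] using this

/-- Membership in a list of numbers. -/
noncomputable def inL (l : List ℕ) (v : ℕ) : Bool :=
  List.rec false (fun a _ r => cond (Nat.beq a v) true r) l

theorem inL_iff {v : ℕ} : ∀ {l : List ℕ}, inL l v = true ↔ v ∈ l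
  | [] => by simp [inL]
  | a :: l => by
    show cond (Nat.beq a v) true (inL l v) = true ↔ _
    rw [List.mem_cons]
    cases h : Nat.beq a v
    · rw [cond_false, inL_iff]
      have : a ≠ v := fun e => by rw [e, Nat.beq_refl] at h; exact absurd h (by decide)
      simp [Ne.symm this]
    · simp [Nat.eq_of_beq_eq_true h]

theorem orbit_check : allFrom (fun i => force (mA i) fun m =>
    inL pList (la m 2) && inL rList (la m r33)) 0 7200 = true := by decide +kernel

theorem tR_eq : tR = el 2 := by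
  rw [show (2 : ℕ) = 2 ^ 1 from rfl, el, holds.elt_two_pow (by norm_num), eR_low (by norm_num)]
  rfl

theorem tR_mem : tR ∈ KK := tR_eq ▸ el_mem 2

theorem conj_t {k : RG} (hk : k ∈ KK) : ∃ d < 512, k * tR * k⁻¹ = el d ∧ d % 256 ∈ pList := by
  obtain ⟨i, hi, ha⟩ := exists_index hk
  obtain ⟨d, hd, hl⟩ := ha 2
  have hc := (allFrom_iff _ _ _).1 orbit_check i (Nat.zero_le _) (by rw [nM] at hi; omega)
  rw [force_eq, Bool.and_eq_true, inL_iff] at hc
  refine ⟨d % 512, Nat.mod_lt _ (by norm_num), by rw [tR_eq, hd]; exact el_congr (by rw [Nat.mod_mod]), ?_⟩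
  rw [show d % 512 % 256 = d % 256 by omega, hl]
  exact hc.1

theorem cen_eq : (HNOut.cen : Cfsg.Spor.HN) = tR := by
  rw [tR, W, iH_hE (by decide +kernel), HNOut.cen, pow_two]
  simp only [cvW, cvL, ev, List.map_cons, List.map_nil, List.prod_cons, List.prod_nil, mul_one]
  rfl

theorem CH {k : RG} (h : k * tR = tR * k) : k ∈ iH.range := by
  obtain ⟨S⟩ := HNOrder.exists_setup
  have hC : Nat.card Cfsg.Spor.HN = 273030912000000 := (Cfsg.Agent.S1701.result).2
  rw [iH_range]
  refine HNOut.fact_cent S (HNOrder.x_four_of_setup S) hC HNOrder.card_sub3 k ?_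
  rw [cen_eq]
  exact h

/-- The elements of the model commuting with the central involution `b`. -/
theorem card_cent_le :
    Nat.card ↥(KK ⊓ Subgroup.centralizer {tR} ⊓ Subgroup.centralizer {bR} : Subgroup RG) ≤ 30720 ∧
      Nat.card ↥(Subgroup.centralizer {tR} ⊓ Subgroup.centralizer {bR} : Subgroup RG) ≤ 30720 := by
  have := finite_RG
  have h2 : Nat.card ↥(Subgroup.centralizer {tR} ⊓ Subgroup.centralizer {bR} : Subgroup RG) ≤ 30720 := by
    have hle : (Subgroup.centralizer {tR} ⊓ Subgroup.centralizer {bR} : Subgroup RG) ≤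
        (Subgroup.centralizer {hE bW}).map iH := by
      rintro k ⟨h1, h2⟩
      obtain ⟨a, rfl⟩ := CH (Subgroup.mem_centralizer_singleton_iff.1 h1)
      refine Subgroup.mem_map.2 ⟨a, Subgroup.mem_centralizer_singleton_iff.2 (iH_injective ?_), rfl⟩
      rw [map_mul, map_mul]
      exact Subgroup.mem_centralizer_singleton_iff.1 h2
    refine (Subgroup.card_le_of_le hle).trans ?_
    rw [← Nat.card_congr ((Subgroup.centralizer {hE bW}).equivMapOfInjective iH iH_injective).toEquiv]
    exact card_centralizer_b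
  exact ⟨(Subgroup.card_le_of_le (le_inf (inf_le_left.trans inf_le_right) inf_le_right)).trans h2, h2⟩

theorem KK_b {k : RG} (hk : k ∈ KK) : k * bR = bR * k := by
  have hle : KK ≤ Subgroup.centralizer {bR} := by
    rw [KK, Subgroup.closure_le]
    intro x hx
    rw [SetLike.mem_coe, Subgroup.mem_centralizer_singleton_iff]
    rcases hx with ⟨g, hg, rfl⟩ | ⟨c, rfl⟩
    · interval_cases g
      · show sE * bR = bR * sE
        calc sE * bR = sE * bR * (sE * sE) := by rw [sE_sq, mul_one]
          _ = sE * bR * sE * sE := by group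
          _ = _ := by rw [bR_s]
      exacts [uv_b.1, uv_b.2]
    · exact el_comm_b c
  exact Subgroup.mem_centralizer_singleton_iff.1 (hle hk)

theorem index_cent_le : ((Subgroup.centralizer {tR}).subgroupOf KK).index ≤ 120 := by
  have := finite_RG
  classical
  set S : Subgroup KK := (Subgroup.centralizer {tR}).subgroupOf KK
  let P : Finset ℕ := (Finset.range 512).filter fun d => d % 256 ∈ pList
  have hP : P.card = 120 := by decide +kernel
  let f : KK → P := fun k => ⟨(conj_t k.2).choose, Finset.mem_filter.2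
    ⟨Finset.mem_range.2 (conj_t k.2).choose_spec.1, (conj_t k.2).choose_spec.2.2⟩⟩
  have hf : ∀ k : KK, (k : RG) * tR * (k : RG)⁻¹ = el (f k : ℕ) := fun k => (conj_t k.2).choose_spec.2.1
  let g : KK ⧸ S → P := fun q => f q.out
  have hg : Function.Injective g := by
    intro q r e
    have e' : ((q.out : KK) : RG) * tR * ((q.out : KK) : RG)⁻¹ = (r.out : KK) * tR * ((r.out : KK) : RG)⁻¹ := by
      rw [hf, hf, show f q.out = f r.out from e]
    rw [← QuotientGroup.out_eq' q, ← QuotientGroup.out_eq' r]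
    refine QuotientGroup.eq.2 (Subgroup.mem_subgroupOf.2 (Subgroup.mem_centralizer_singleton_iff.2 ?_))
    push_cast
    calc ((q.out : KK) : RG)⁻¹ * (r.out : KK) * tR
        = ((q.out : KK) : RG)⁻¹ * ((r.out : KK) * tR * ((r.out : KK) : RG)⁻¹) * (r.out : KK) := by group
      _ = _ := by rw [← e']; group
  have := Nat.card_le_card_of_injective g hg
  rwa [Nat.card_eq_finsetCard, hP, ← Subgroup.index_eq_card] at this

theorem card_KK : Nat.card KK = 3686400 := by
  have := finite_RG
  refine le_antisymm ?_ card_ge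
  classical
  let S : Subgroup KK := (Subgroup.centralizer {tR}).subgroupOf KK
  have hS : Nat.card S ≤ 30720 := by
    refine le_trans ?_ card_cent_le.1
    refine Nat.card_le_card_of_injective (fun x => ⟨((x : KK) : RG), ⟨(x : KK).2, Subgroup.mem_subgroupOf.1 x.2⟩,
      Subgroup.mem_centralizer_singleton_iff.2 (KK_b (x : KK).2)⟩) ?_
    intro x y e
    exact Subtype.ext (Subtype.ext (congrArg Subtype.val e : _))
  have hidx : S.index ≤ 120 := index_cent_le
  rw [← Subgroup.card_mul_index S]
  calc Nat.card S * S.index ≤ 30720 * 120 := Nat.mul_le_mul hS hidx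
    _ = 3686400 := by norm_num

/-- Every element is a listed one times a member of the extraspecial group. -/
theorem decomp {k : RG} (hk : k ∈ KK) : ∃ i < nM, ∃ c < 512, k = kOf i * el c := by
  have := finite_RG
  let f : Fin nM × Fin 512 → KK := fun p =>
    ⟨kOf p.1 * el p.2, mul_mem (kOf_spec p.1.2).1 (el_mem _)⟩
  have hf : Function.Injective f := by
    rintro ⟨i, c⟩ ⟨j, d⟩ e
    have e' : kOf i * el c = kOf j * el d := congrArg Subtype.val e
    have h1 : Act (kOf i * el c) (mA i) :=
      act_mul (kOf_spec i.2).2 (act_el _) fun v => by rw [la_one, la_mod]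
    have h2 : Act (kOf j * el d) (mA j) :=
      act_mul (kOf_spec j.2).2 (act_el _) fun v => by rw [la_one, la_mod]
    obtain rfl := Fin.ext (index_uniq i.2 j.2 h1 (e' ▸ h2))
    obtain rfl := Fin.ext (el_inj c.2 d.2 (mul_left_cancel e'))
    rfl
  have hb := (Nat.bijective_iff_injective_and_card _).2 ⟨hf, by rw [card_KK]; simp [nM]⟩
  obtain ⟨⟨i, c⟩, e⟩ := hb.2 ⟨k, hk⟩
  exact ⟨i, i.2, c, c.2, (congrArg Subtype.val e).symm⟩

/-- The kernel of the action is the extraspecial group. -/
theorem kernel_el {k : RG} (hk : k ∈ KK) (h : Act k (mA 0)) : ∃ c < 512, k = el c := by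
  obtain ⟨i, hi, c, hc, rfl⟩ := decomp hk
  have h1 : Act (kOf i * el c) (mA i) :=
    act_mul (kOf_spec hi).2 (act_el _) fun v => by rw [la_one, la_mod]
  obtain rfl := index_uniq hi (by norm_num [nM]) h1 h
  exact ⟨c, hc, by rw [kOf, if_pos rfl, one_mul]⟩

end Cfsg.Agent.HNRec.Global
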