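import Cfsg.Agent.HNRec.Global.Bound

/-!
The global step: the centraliser of `b` and the whole group lie in the image of the presented group.
-/

set_option autoImplicit false
set_option maxRecDepth 100000

namespace Cfsg.Agent.HNRec.Global

open Cfsg.Agent.CosetCert Data

/-- Every involution of the presented group is conjugate to `tR` or to `bR`. -/
theorem invol_class_RG {x : RG} (hx : x ≠ 1) (h2 : x * x = 1) : TCl x ∨ BCl x := by
  have := finite_RG
  haveI : Fact (Nat.Prime 2) := ⟨Nat.prime_two⟩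
  obtain ⟨P0, hP0⟩ := Sylow.exists_subgroup_card_pow_prime (G := KK) 2 (n := 14)
    (by rw [card_KK]; norm_num)
  set Q : Subgroup RG := P0.map KK.subtype with hQ
  have hQc : Nat.card Q = 2 ^ 14 := by
    rw [hQ, ← hP0]
    exact (Nat.card_congr (P0.equivMapOfInjective _ KK.subtype_injective).toEquiv).symm
  have hfac : (Nat.card RG).factorization 2 = 14 := by
    rw [(Cfsg.Agent.S1701.result).2, show (273030912000000 : ℕ) = 2 ^ 14 * 16664484375 by norm_num,
      Nat.factorization_mul (by norm_num) (by norm_num), Finsupp.add_apply, Nat.prime_two.factorization_pow,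
      Finsupp.single_eq_same, Nat.factorization_eq_zero_of_not_dvd (by norm_num)]
  let QS : Sylow 2 RG := Sylow.ofCard Q (by rw [hQc, hfac])
  have hord : orderOf x = 2 := orderOf_eq_prime (by rw [pow_two]; exact h2) hx
  have hz : IsPGroup 2 (Subgroup.zpowers x) := IsPGroup.of_card (n := 1) (by
    rw [Nat.card_zpowers, hord, pow_one])
  obtain ⟨P, hP⟩ := hz.exists_le_sylow
  obtain ⟨g, hg⟩ := MulAction.exists_smul_eq RG P QS
  have hm : g * x * g⁻¹ ∈ QS.toSubgroup := by
    rw [← hg]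
    exact Subgroup.smul_mem_pointwise_smul x (MulAut.conj g) _ (hP (Subgroup.mem_zpowers x))
  have hK : g * x * g⁻¹ ∈ KK := by
    obtain ⟨q, -, hq⟩ := Subgroup.mem_map.1 (show g * x * g⁻¹ ∈ Q from hm)
    exact hq ▸ q.2
  have h2' : g * x * g⁻¹ * (g * x * g⁻¹) = 1 := by
    rw [show g * x * g⁻¹ * (g * x * g⁻¹) = g * (x * x) * g⁻¹ by group, h2]; group
  rcases invol_cases hK h2' with h | h | h | h
  · exact absurd (conj_eq_one_iff.1 h) hx
  · exact Or.inl (TCl_PR h).of_conj
  · rcases AR_split h with ⟨h, -⟩ | ⟨h, -⟩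
    exacts [Or.inl h.of_conj, Or.inr h.of_conj]
  · exact Or.inr h.of_conj

variable {G : Type*} [Group G] (S : Hyp G)

/-- The centraliser of the image of `b` is the image of the subgroup. -/
theorem Hyp.centralizer_B [Finite G] {g : G} (h : g * S.θ bR = S.θ bR * g) :
    ∃ k ∈ KK, S.θ k = g := by
  have hg : g ∈ S.Y := Subgroup.mem_centralizer_singleton_iff.2 h
  have : (QuotientGroup.mk' S.Z ⟨g, hg⟩) ∈ S.phi.range := by rw [S.phi_range]; exact Subgroup.mem_top _
  obtain ⟨k, hk⟩ := this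
  rw [Hyp.phi, MonoidHom.comp_apply, QuotientGroup.mk'_eq_mk'] at hk
  obtain ⟨z, hz, e⟩ := hk
  have e' : S.θ k * (z : G) = g := congrArg Subtype.val e
  rcases S.mem_Z hz with h1 | h1 <;> rw [h1] at e'
  · exact ⟨k, k.2, by rw [← e', mul_one]⟩
  · exact ⟨k * bR, mul_mem k.2 bR_mem, by rw [map_mul]; exact e'⟩

/-- The centraliser of the image of `b` lies in the image. -/
theorem Hyp.centralizer_B_le [Finite G] : Subgroup.centralizer {S.θ bR} ≤ S.θ.range := fun g hg => by
  obtain ⟨k, -, hk⟩ := S.centralizer_B (Subgroup.mem_centralizer_singleton_iff.1 hg)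
  exact ⟨k, hk⟩

/-- Centralisers of the second class lie in the image. -/
theorem Hyp.cent_BCl [Finite G] {x : RG} (hx : BCl x) {g : G} (h : g * S.θ x = S.θ x * g) :
    g ∈ S.θ.range := by
  obtain ⟨c, rfl⟩ := hx
  have h1 := S.centralizer_B_le (x := (S.θ c)⁻¹ * g * S.θ c) (Subgroup.mem_centralizer_singleton_iff.2 (by
    calc (S.θ c)⁻¹ * g * S.θ c * S.θ bR = (S.θ c)⁻¹ * (g * S.θ (c * bR * c⁻¹)) * S.θ c := by
          simp only [map_mul, map_inv]; group
      _ = _ := by rw [h]; simp only [map_mul, map_inv]; group))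
  obtain ⟨r, hr⟩ := h1
  exact ⟨c * r * c⁻¹, by simp only [map_mul, map_inv, hr]; group⟩

/-- The image is the whole group. -/
theorem Hyp.range_eq_top [Finite G] [IsSimpleGroup G] : S.θ.range = ⊤ := by
  by_contra hne
  obtain ⟨g, hg⟩ : ∃ g : G, g * S.θ bR * g⁻¹ ∉ S.θ.range := by
    by_contra hall
    push Not at hall
    have hN : Subgroup.normalClosure {S.θ bR} ≤ S.θ.range := by
      rw [Subgroup.normalClosure, Subgroup.closure_le]
      intro y hy
      rw [Group.mem_conjugatesOfSet_iff] at hy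
      obtain ⟨a, ha, hay⟩ := hy
      obtain ⟨c, hc⟩ := isConj_iff.1 hay
      rw [Set.mem_singleton_iff] at ha
      rw [SetLike.mem_coe, ← hc, ha]
      exact hall c
    rcases Subgroup.normalClosure_normal.eq_bot_or_eq_top (H := Subgroup.normalClosure {S.θ bR}) with h | h
    · have hb : S.θ bR ∈ (⊥ : Subgroup G) := h ▸ Subgroup.subset_normalClosure (Set.mem_singleton _)
      exact bR_ne (S.inj ((Subgroup.mem_bot.1 hb).trans (map_one S.θ).symm))
    · exact hne (top_unique (h ▸ hN))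
  set s := g * S.θ bR * g⁻¹ with hs
  set t := S.θ tR with ht
  have hs2 : s * s = 1 := by
    rw [hs, show g * S.θ bR * g⁻¹ * (g * S.θ bR * g⁻¹) = g * (S.θ bR * S.θ bR) * g⁻¹ by group,
      ← map_mul, bR_sq, map_one]
    group
  have ht2 : t * t = 1 := by rw [ht, ← map_mul, tR_sq, map_one]
  set ρ := s * t with hρ
  have hρi : ρ⁻¹ = t * s := by
    rw [hρ, mul_inv_rev, inv_eq_of_mul_eq_one_right ht2, inv_eq_of_mul_eq_one_right hs2]
  have hρs : ∀ j : ℕ, s * (ρ ^ j)⁻¹ = ρ ^ j * s := fun j => by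
    induction j with
    | zero => simp
    | succ j ih =>
      calc s * (ρ ^ (j + 1))⁻¹ = (s * ρ⁻¹) * (ρ ^ j)⁻¹ := by rw [pow_succ, mul_inv_rev, mul_assoc]
        _ = ρ * (s * (ρ ^ j)⁻¹) := by rw [hρi, hρ]; simp only [mul_assoc]
        _ = ρ ^ (j + 1) * s := by rw [ih, pow_succ', mul_assoc]; simp only [hρ, mul_assoc]
  rcases Nat.even_or_odd (orderOf ρ) with ⟨k, hk⟩ | ⟨m, hm⟩
  · have hk0 : 0 < k := by have := orderOf_pos ρ; omega
    set j := ρ ^ k with hj
    have hj2 : j * j = 1 := by rw [hj, ← pow_add, ← hk, pow_orderOf_eq_one]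
    have hj1 : j ≠ 1 := fun e => by
      have := Nat.le_of_dvd hk0 (orderOf_dvd_of_pow_eq_one e)
      omega
    have hji : j⁻¹ = j := inv_eq_of_mul_eq_one_right hj2
    have hjs : j * s = s * j := by rw [hj, ← hρs, ← hj, hji]
    have hjt : j * t = t * j := by
      have h1 : Commute j ρ := (Commute.refl ρ).pow_left k
      have e : t = s * ρ := by rw [hρ, ← mul_assoc, hs2, one_mul]
      rw [e, ← mul_assoc, hjs, mul_assoc, h1.eq, mul_assoc]
    obtain ⟨r, hr⟩ := S.cent j hjt
    have hr1 : r ≠ 1 := fun e => hj1 (by rw [← hr, e, map_one])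
    have hr2 : r * r = 1 := S.inj (by rw [map_mul, hr, hj2, map_one])
    apply hg
    rcases invol_class_RG hr1 hr2 with h | h
    · exact S.cent_TCl h (by rw [hr]; exact hjs.symm)
    · exact S.cent_BCl h (by rw [hr]; exact hjs.symm)
  · have hst : ρ ^ (2 * m + 1) = 1 := by rw [← hm]; exact pow_orderOf_eq_one _
    have h1 : ρ ^ m * s * (ρ ^ m)⁻¹ = t := by
      rw [mul_assoc, hρs, ← mul_assoc, ← pow_add, ← two_mul]
      rw [eq_inv_of_mul_eq_one_left (show ρ ^ (2 * m) * ρ = 1 by rw [← pow_succ]; exact hst), hρi,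
        mul_assoc, hs2, mul_one]
    exact S.sep (ρ ^ m * g) (by rw [← ht, ← h1, hs]; group)

/-- The hypotheses from a map of the model. -/
noncomputable def Hyp.ofModel [Finite G] (θ : RG →* G) (Phi : HNOrder.HGroup →* G)
    (hθ : θ.comp iH = Phi) (hinj : Function.Injective Phi)
    (mem_range : ∀ y : G, y * Phi tH = Phi tH * y → y ∈ Phi.range)
    (hsep : ∀ g : G, g * Phi (hE bW) * g⁻¹ ≠ Phi tH) : Hyp G where
  θ := θ
  inj := by
    have hs : IsSimpleGroup RG := (Cfsg.Agent.S1701.result).1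
    rw [← MonoidHom.ker_eq_bot_iff]
    rcases hs.eq_bot_or_eq_top_of_normal θ.ker θ.normal_ker with h | h
    · exact h
    · exfalso
      have h1 : Phi tH = 1 := by
        rw [← hθ]; exact MonoidHom.mem_ker.1 (h ▸ Subgroup.mem_top (iH tH))
      exact (diffW_spec (u := [0, 0]) (v := []) (by decide +kernel)) (hinj (h1.trans (map_one Phi).symm))
  cent g h := by
    obtain ⟨y, hy⟩ := mem_range g (by rw [← hθ]; exact h)
    exact ⟨iH y, by rw [← hy, ← hθ]; rfl⟩
  sep g h := hsep g (by rw [← hθ]; exact h)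

end Cfsg.Agent.HNRec.Global
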