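import Cfsg.Agent.HNRec.Global.Classes

/-!
The lifts of the two classes: their centralisers and the size of the class of mixed type.
-/

set_option autoImplicit false
set_option maxRecDepth 100000

namespace Cfsg.Agent.HNRec.Global

open Cfsg.Agent.CosetCert Data

/-- The product over the path. -/
noncomputable def pathK : List ℕ → RG
  | [] => 1
  | g :: l => gen3 g * pathK l

/-- The code carried along the path. -/
noncomputable def pathC : List ℕ → ℕ
  | [] => 2
  | g :: l => actC FF (fun i => ([sImg, uImg, vImg].getD g []).getD i 0) (pathC l)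

theorem gen3_conj {g : ℕ} (hg : g < 3) (c : ℕ) :
    gen3 g * el c * (gen3 g)⁻¹ = el (actC FF (fun i => ([sImg, uImg, vImg].getD g []).getD i 0) c) := by
  refine holds.conj_elt ?_ ?_ c
  · rw [KK_b (gen3_mem hg), mul_inv_cancel_right]
  · interval_cases g
    exacts [s_act, u_act, v_act]

theorem path_spec : ∀ {l : List ℕ}, (∀ g ∈ l, g < 3) →
    pathK l ∈ KK ∧ pathK l * tR * (pathK l)⁻¹ = el (pathC l)
  | [], _ => ⟨one_mem _, by rw [pathK, pathC, tR_eq]; group⟩
  | g :: l, h => by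
    obtain ⟨h1, h2⟩ := path_spec fun x hx => h x (List.mem_cons_of_mem _ hx)
    refine ⟨mul_mem (gen3_mem (h g List.mem_cons_self)) h1, ?_⟩
    rw [pathC, ← gen3_conj (h g List.mem_cons_self), ← h2, pathK]; group

theorem tb_path : (pathK tbPath) ∈ KK ∧ pathK tbPath * tR * (pathK tbPath)⁻¹ = tR * bR := by
  obtain ⟨h1, h2⟩ := path_spec (l := tbPath) (by decide +kernel)
  refine ⟨h1, h2.trans ?_⟩
  rw [show pathC tbPath = 2 ^^^ 256 by decide +kernel, el, holds.elt_xor_256, ← el, ← tR_eq]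

/-- Every lift of the first kind is of the first class. -/
theorem TCl_PR {y : RG} (h : y ∈ PR) : TCl y := by
  obtain ⟨d, rfl, hd⟩ := h
  obtain ⟨k, hkk, hk | hk⟩ := PR_orbit hd
  · exact ⟨k, hk.symm⟩
  · refine ⟨k * pathK tbPath, ?_⟩
    calc el d = el d * bR * bR := by rw [mul_assoc, bR_sq, mul_one]
      _ = k * tR * k⁻¹ * bR := by rw [hk]
      _ = k * (tR * bR) * k⁻¹ := by
        have hb : bR * k⁻¹ = k⁻¹ * bR := by
          rw [eq_inv_mul_iff_mul_eq, ← mul_assoc, mul_inv_eq_iff_eq_mul]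
          exact (KK_b hkk).symm
        simp only [mul_assoc, hb]
      _ = _ := by rw [← tb_path.2]; group

theorem PR_mul_b {y : RG} (h : y ∈ PR) : y * bR ∈ PR := by
  obtain ⟨d, rfl, hd⟩ := h
  exact ⟨d ^^^ 256, (holds.elt_xor_256 d).symm, by
    rwa [show (d ^^^ 256) % 256 = d % 256 from
      mod_256_eq fun i hi => by rw [Nat.testBit_xor, testBit_256 hi, Bool.xor_false]]⟩

theorem conj_mul_b {k : RG} (hk : k ∈ KK) (x : RG) : k * x * k⁻¹ * bR = k * (x * bR) * k⁻¹ := by
  have hb : bR * k⁻¹ = k⁻¹ * bR := by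
    rw [eq_inv_mul_iff_mul_eq, ← mul_assoc, mul_inv_eq_iff_eq_mul]
    exact (KK_b hk).symm
  simp only [mul_assoc, hb]

theorem AR_mul_b {y : RG} (h : y ∈ AR) : y * bR ∈ AR := by
  obtain ⟨k, hk, rfl | rfl⟩ := h
  · exact ⟨k, hk, Or.inr (conj_mul_b hk _)⟩
  · exact ⟨k, hk, Or.inl (by rw [conj_mul_b hk, mul_assoc, bR_sq, mul_one])⟩

theorem AR_split {y : RG} (h : y ∈ AR) :
    (TCl y ∧ BCl (y * bR)) ∨ (BCl y ∧ TCl (y * bR)) := by
  obtain ⟨k, hk, rfl | rfl⟩ := h <;> rw [conj_mul_b hk]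
  · exact Or.inl ⟨TCl_aR.conj k, BCl_ab.conj k⟩
  · rw [mul_assoc aR, bR_sq, mul_one]
    exact Or.inr ⟨BCl_ab.conj k, TCl_aR.conj k⟩

theorem bhD_checks :
    sameW (bW ++ hzW) (hzW ++ dP bhD) = true ∧ bhD.all (Nat.blt · 5) = true ∧
      sameW (sP bhD) bpW = true ∧ sameW (wbp ++ yW) (bpW ++ wbp) = true ∧
      sameW (aW ++ bW) (bW ++ aW) = true := by
  refine ⟨?_, ?_, ?_, ?_, ?_⟩ <;> decide +kernel

/-- The common centraliser of the mixed representative and `b` is small. -/
theorem card_cent_a :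
    Nat.card ↥(Subgroup.centralizer {aR} ⊓ Subgroup.centralizer {bR} : Subgroup RG) ≤ 3840 := by
  have := finite_RG
  have := hgroup_finite
  obtain ⟨h1, h2, h3, h4, -⟩ := bhD_checks
  set c : RG := W hzW * sE
  set h : RG := W wbp
  have hb : c⁻¹ * bR * c = h * iH (hE yW) * h⁻¹ := by
    show (W hzW * sE)⁻¹ * bR * (W hzW * sE) = W wbp * W yW * (W wbp)⁻¹
    rw [W_conj h4, ← W_same h3, ← sd_word h2, mul_inv_rev, sE_inv]
    have e : bR * W hzW = W hzW * W (dP bhD) := by
      rw [bR, ← W_append, ← W_append]; exact W_same h1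
    calc sE * (W hzW)⁻¹ * bR * (W hzW * sE) = sE * (W hzW)⁻¹ * (bR * W hzW) * sE := by group
      _ = _ := by rw [e]; group
  set d : RG := c * h
  have hle : (Subgroup.centralizer {aR} ⊓ Subgroup.centralizer {bR} : Subgroup RG).map
      (MulAut.conj d⁻¹).toMonoidHom ≤ (Subgroup.centralizer {hE yW}).map iH := by
    rintro _ ⟨x, ⟨hxa, hxb⟩, rfl⟩
    show d⁻¹ * x * d⁻¹⁻¹ ∈ _
    rw [inv_inv]
    have ht : (d⁻¹ * x * d) * tR = tR * (d⁻¹ * x * d) := by
      have ea : tR = d⁻¹ * aR * d := by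
        have e1 : h * tR = tR * h := by
          show W wbp * tR = tR * W wbp
          exact iH_comm_t _
        rw [show d⁻¹ * aR * d = h⁻¹ * (c⁻¹ * aR * c) * h by simp only [d]; group,
          show c⁻¹ * aR * c = tR by rw [aR_eq]; group, mul_assoc, ← e1, inv_mul_cancel_left]
      rw [ea, show d⁻¹ * x * d * (d⁻¹ * aR * d) = d⁻¹ * (x * aR) * d by group,
        show d⁻¹ * aR * d * (d⁻¹ * x * d) = d⁻¹ * (aR * x) * d by group,
        Subgroup.mem_centralizer_singleton_iff.1 hxa]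
    obtain ⟨q, hq⟩ := CH ht
    refine Subgroup.mem_map.2 ⟨q, Subgroup.mem_centralizer_singleton_iff.2 (iH_injective ?_), hq⟩
    have ey : iH (hE yW) = d⁻¹ * bR * d := by
      rw [show d⁻¹ * bR * d = h⁻¹ * (c⁻¹ * bR * c) * h by simp only [d]; group, hb]; group
    rw [map_mul, map_mul, hq, ey, show d⁻¹ * x * d * (d⁻¹ * bR * d) = d⁻¹ * (x * bR) * d by group,
      show d⁻¹ * bR * d * (d⁻¹ * x * d) = d⁻¹ * (bR * x) * d by group,
      Subgroup.mem_centralizer_singleton_iff.1 hxb]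
  refine le_trans (le_of_eq ?_) ((Subgroup.card_le_of_le hle).trans (le_of_eq_of_le ?_ card_centralizer_y))
  · exact Nat.card_congr ((Subgroup.centralizer {aR} ⊓ Subgroup.centralizer {bR}).equivMapOfInjective
      (MulAut.conj d⁻¹).toMonoidHom (MulAut.conj d⁻¹).injective).toEquiv
  · exact (Nat.card_congr ((Subgroup.centralizer {hE yW}).equivMapOfInjective iH iH_injective).toEquiv).symm

theorem cls_checks : allFrom (fun g => allFrom (fun n => force (mA (cl60.getD n 0)) fun m =>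
      !(allFrom (fun n' => force (mA (cl60.getD n' 0)) fun m' => !(allFrom (fun j => force (Nat.pow 2 j) fun e =>
        Nat.beq (la (gM g) (la m e)) (la m' (la (gM g) e))) 0 8)) 0 60)) 0 60) 0 3 = true ∧
    allFrom (fun n => force (mA (cl60J.getD n 0)) fun mj => force (mA (cl60.getD n 0)) fun m =>
      gate (Nat.blt (cl60.getD n 0) 7200) (gate (Nat.blt (cl60J.getD n 0) 7200)
      (allFrom (fun j => force (Nat.pow 2 j) fun e =>
        Nat.beq (la mj (la m e)) (la (clsM 0) (la mj e))) 0 8))) 0 60 = true ∧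
    ((List.range 256).filter fun v => Nat.beq (la (clsM 0) v) v).length = 16 ∧
    Nat.beq (cl60.getD 0 0) (clsIdx.getD 0 0) = true := by
  refine ⟨?_, ?_, ?_, ?_⟩ <;> decide +kernel

/-- The conjugates of the mixed representative act by the sixty maps. -/
theorem cls_of_conj {k : RG} (hk : k ∈ KK) :
    ∃ n < 60, Act (k * aR * k⁻¹) (mA (cl60.getD n 0)) := by
  have := finite_RG
  obtain ⟨-, ha, -, -⟩ := repR_spec (c := 0) (by norm_num)
  rw [KK, ← Subgroup.mem_toSubmonoid, Subgroup.closure_toSubmonoid_of_finite] at hk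
  induction hk using Submonoid.closure_induction_left with
  | one =>
    refine ⟨0, by norm_num, ?_⟩
    rw [Nat.eq_of_beq_eq_true cls_checks.2.2.2]
    simpa [repR, clsM] using ha
  | mul_left x hx y _ ih =>
    obtain ⟨n, hn, hy⟩ := ih
    rcases hx with ⟨g, hg, rfl⟩ | ⟨c, rfl⟩
    · have hh := (allFrom_iff _ _ _).1 ((allFrom_iff _ _ _).1 cls_checks.1 g (Nat.zero_le _) (by omega))
        n (Nat.zero_le _) (by omega)
      simp only [force_eq] at hh
      have hne : ¬ ∀ n', 0 ≤ n' → n' < 0 + 60 → (!(allFrom (fun j => Nat.beq (la (gM g) (la (mA (cl60.getD n 0)) (Nat.pow 2 j)))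
          (la (mA (cl60.getD n' 0)) (la (gM g) (Nat.pow 2 j)))) 0 8)) = true := by
        rw [← allFrom_iff (fun n' => !(allFrom (fun j => Nat.beq (la (gM g) (la (mA (cl60.getD n 0)) (Nat.pow 2 j)))
          (la (mA (cl60.getD n' 0)) (la (gM g) (Nat.pow 2 j)))) 0 8)) 0 60]
        simpa using hh
      push Not at hne
      obtain ⟨n', -, hn', he⟩ := hne
      rw [Bool.not_eq_true, Bool.not_eq_false'] at he
      refine ⟨n', by omega, fun v => ?_⟩
      obtain ⟨l, hl, hla⟩ := exists_index (inv_mem (gen3_mem hg))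
      obtain ⟨d1, e1, l1⟩ := hla v
      obtain ⟨d2, e2, l2⟩ := hy d1
      obtain ⟨d3, e3, l3⟩ := act_gen hg d2
      obtain ⟨d4, e4, l4⟩ := act_gen hg d1
      refine ⟨d3, by rw [← e3, ← e2, ← e1]; group, ?_⟩
      have hd4 : el d4 = el v := by rw [← e4, ← e1]; group
      rw [← la_mod, ← el_low_inj hd4, l4, la_mod, l3, ← la_mod (gM g) d2, l2, la_mod]
      rw [← la_mod (mA (cl60.getD n 0)) d1, ← la_mod (gM g) d1]
      exact lin_ext (fun a c => by simp only [la_xor]) (fun a c => by simp only [la_xor])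
        (fun j hj => Nat.eq_of_beq_eq_true ((allFrom_iff _ _ _).1 he j (Nat.zero_le _) (by omega)))
        _ (Nat.mod_lt _ (by norm_num))
    · refine ⟨n, hn, fun v => ?_⟩
      obtain ⟨c', hc', -⟩ := el_inv c
      obtain ⟨d1, e1, l1⟩ := act_el c' v
      obtain ⟨d2, e2, l2⟩ := hy d1
      obtain ⟨d3, e3, l3⟩ := act_el c d2
      refine ⟨d3, by rw [← e3, ← e2, ← e1, ← hc']; group, ?_⟩
      rw [l3, la_one, l2, ← la_mod _ d1, l1, la_one, la_mod, la_mod]

end Cfsg.Agent.HNRec.Global
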