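import Cfsg.Agent.HNRec.Global.Mixed
import Cfsg.Agent.HNRec.Global.Abstract

/-!
The centraliser of `b` in a group containing the presented one, modulo `b`: the data of the criterion.
-/

set_option autoImplicit false
set_option maxRecDepth 100000

namespace Cfsg.Agent.HNRec.Global

open Cfsg.Agent.CosetCert Data

/-- The hypotheses on a group containing the presented one. -/
structure Hyp (G : Type*) [Group G] where
  θ : RG →* G
  inj : Function.Injective θ
  /-- the centraliser of the central involution of the model lies in the image -/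
  cent : ∀ g : G, g * θ tR = θ tR * g → g ∈ θ.range
  /-- the two classes do not fuse -/
  sep : ∀ g : G, g * θ bR * g⁻¹ ≠ θ tR

variable {G : Type*} [Group G] (S : Hyp G)

theorem Hyp.not_TB {x y : RG} (hx : TCl x) (hy : BCl y) (g : G) : g * S.θ y * g⁻¹ ≠ S.θ x := by
  obtain ⟨c, rfl⟩ := hx
  obtain ⟨d, rfl⟩ := hy
  intro h
  refine S.sep ((S.θ c)⁻¹ * g * S.θ d) ?_
  calc (S.θ c)⁻¹ * g * S.θ d * S.θ bR * ((S.θ c)⁻¹ * g * S.θ d)⁻¹
      = (S.θ c)⁻¹ * (g * S.θ (d * bR * d⁻¹) * g⁻¹) * S.θ c := by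
        simp only [map_mul, map_inv]; group
    _ = S.θ tR := by rw [h]; simp only [map_mul, map_inv]; group

theorem Hyp.not_TB' {x : RG} (hx : TCl x) (hy : BCl x) : False :=
  S.not_TB hx hy 1 (by rw [one_mul, inv_one, mul_one])

/-- Centralisers of the first class lie in the image. -/
theorem Hyp.cent_TCl {x : RG} (hx : TCl x) {g : G} (h : g * S.θ x = S.θ x * g) : g ∈ S.θ.range := by
  obtain ⟨c, rfl⟩ := hx
  have h1 := S.cent ((S.θ c)⁻¹ * g * S.θ c) (by
    calc (S.θ c)⁻¹ * g * S.θ c * S.θ tR = (S.θ c)⁻¹ * (g * S.θ (c * tR * c⁻¹)) * S.θ c := by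
          simp only [map_mul, map_inv]; group
      _ = _ := by rw [h]; simp only [map_mul, map_inv]; group)
  obtain ⟨r, hr⟩ := h1
  exact ⟨c * r * c⁻¹, by simp only [map_mul, map_inv, hr]; group⟩

/-- The centraliser of the image of `b`. -/
abbrev Hyp.Y : Subgroup G := Subgroup.centralizer {S.θ bR}

theorem Hyp.b_mem : S.θ bR ∈ S.Y := Subgroup.mem_centralizer_singleton_iff.2 rfl

/-- The subgroup generated by the image of `b`. -/
abbrev Hyp.Z : Subgroup S.Y := Subgroup.zpowers ⟨S.θ bR, S.b_mem⟩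

instance Hyp.Z_normal : S.Z.Normal := by
  refine ⟨fun n hn y => ?_⟩
  obtain ⟨i, rfl⟩ := hn
  have hc : Commute y (⟨S.θ bR, S.b_mem⟩ : S.Y) :=
    Subtype.ext (Subgroup.mem_centralizer_singleton_iff.1 y.2)
  rw [(hc.zpow_right i).eq, mul_inv_cancel_right]
  exact Subgroup.zpow_mem_zpowers _ i

theorem Hyp.mem_Z {y : S.Y} (h : y ∈ S.Z) : (y : G) = 1 ∨ (y : G) = S.θ bR := by
  obtain ⟨i, rfl⟩ := h
  have h2 : (⟨S.θ bR, S.b_mem⟩ : S.Y) ^ (2 : ℤ) = 1 := by
    rw [zpow_two]; exact Subtype.ext (by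
      show S.θ bR * S.θ bR = 1
      rw [← map_mul, bR_sq, map_one])
  rcases Int.even_or_odd i with ⟨j, rfl⟩ | ⟨j, rfl⟩
  · left
    show (((⟨S.θ bR, S.b_mem⟩ : S.Y) ^ (j + j) : S.Y) : G) = 1
    rw [← two_mul, zpow_mul, h2, one_zpow]; rfl
  · right
    show (((⟨S.θ bR, S.b_mem⟩ : S.Y) ^ (2 * j + 1) : S.Y) : G) = S.θ bR
    rw [zpow_add_one, zpow_mul, h2, one_zpow, one_mul]

/-- The quotient. -/
abbrev Hyp.X := S.Y ⧸ S.Z

/-- The subgroup in the centraliser. -/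
noncomputable def Hyp.toY : KK →* S.Y :=
  (S.θ.comp KK.subtype).codRestrict S.Y fun k => Subgroup.mem_centralizer_singleton_iff.2 (by
    rw [MonoidHom.comp_apply, ← map_mul, ← map_mul]
    exact congrArg S.θ (KK_b k.2))

/-- The subgroup in the quotient. -/
noncomputable def Hyp.phi : KK →* S.X := (QuotientGroup.mk' S.Z).comp S.toY

theorem Hyp.phi_eq {a c : KK} : S.phi a = S.phi c ↔ (c : RG) = a ∨ (c : RG) = a * bR := by
  rw [Hyp.phi, MonoidHom.comp_apply, MonoidHom.comp_apply, QuotientGroup.mk'_eq_mk']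
  constructor
  · rintro ⟨z, hz, e⟩
    have e' : S.θ a * (z : G) = S.θ c := congrArg Subtype.val e
    rcases S.mem_Z hz with h | h <;> rw [h] at e'
    · left; apply S.inj; rw [← e', mul_one]
    · right; apply S.inj; rw [← e', map_mul]
  · rintro (h | h)
    · exact ⟨1, one_mem _, by rw [mul_one]; exact Subtype.ext (congrArg S.θ h.symm)⟩
    · exact ⟨⟨S.θ bR, S.b_mem⟩, Subgroup.mem_zpowers _, Subtype.ext (by
        show S.θ a * S.θ bR = S.θ c
        rw [← map_mul, h])⟩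

/-- Two classes in the quotient. -/
def Hyp.PX : Set S.X := {x | ∃ k : KK, (k : RG) ∈ PR ∧ x = S.phi k}

/-- The class of mixed type. -/
def Hyp.AX : Set S.X := {x | ∃ k : KK, (k : RG) ∈ AR ∧ x = S.phi k}

/-- The elements of the extraspecial group. -/
noncomputable def ER : Subgroup RG where
  carrier := Set.range el
  mul_mem' := by rintro _ _ ⟨a, rfl⟩ ⟨c, rfl⟩; exact ⟨_, holds.elt_mulC a c⟩
  one_mem' := ⟨0, elt_zero⟩
  inv_mem' := by rintro _ ⟨a, rfl⟩; obtain ⟨a', h, -⟩ := el_inv a; exact ⟨a', h.symm⟩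

/-- Its image. -/
noncomputable def Hyp.EX : Subgroup S.X := (ER.subgroupOf KK).map S.phi

theorem AR_mem {y : RG} (h : y ∈ AR) : y ∈ KK := by
  have ha : aR ∈ KK := (repR_spec (c := 0) (by norm_num)).1
  have hb : bR ∈ KK := by
    have := el_mem (2 ^ 8)
    rwa [show el (2 ^ 8) = bR by
      rw [show (2 : ℕ) ^ 8 = 0 ^^^ 256 from rfl, el, holds.elt_xor_256, elt_zero, one_mul]] at this
  obtain ⟨k, hk, rfl | rfl⟩ := h
  exacts [mul_mem (mul_mem hk ha) (inv_mem hk), mul_mem (mul_mem hk (mul_mem ha hb)) (inv_mem hk)]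

/-- A conjugate in the subgroup of a representative is, up to `b`, the image of a conjugate of its lift. -/
theorem Hyp.lift_conj {x : KK} {g : S.X} {k : KK} (h : g * S.phi x * g⁻¹ = S.phi k) :
    ∃ y : G, ∃ k' : RG, (k' = k ∨ k' = k * bR) ∧ y * S.θ x * y⁻¹ = S.θ k' ∧
      y * S.θ (x * bR) * y⁻¹ = S.θ (k' * bR) := by
  obtain ⟨y, rfl⟩ := QuotientGroup.mk'_surjective S.Z g
  rw [Hyp.phi, MonoidHom.comp_apply, MonoidHom.comp_apply, ← map_inv, ← map_mul, ← map_mul,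
    QuotientGroup.mk'_eq_mk'] at h
  obtain ⟨z, hz, e⟩ := h
  have e' : (y : G) * S.θ x * (y : G)⁻¹ * z = S.θ k := congrArg Subtype.val e
  have hyb : (y : G) * S.θ bR = S.θ bR * y := Subgroup.mem_centralizer_singleton_iff.1 y.2
  have hb : ∀ u : RG, (y : G) * S.θ (u * bR) * (y : G)⁻¹ = (y : G) * S.θ u * (y : G)⁻¹ * S.θ bR := fun u => by
    have : S.θ bR * (y : G)⁻¹ = (y : G)⁻¹ * S.θ bR := by
      rw [eq_inv_mul_iff_mul_eq, ← mul_assoc, hyb, mul_inv_cancel_right]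
    rw [map_mul, mul_assoc _ _ (S.θ bR), mul_assoc (y : G), mul_assoc (S.θ u), this]
    group
  rcases S.mem_Z hz with hz1 | hz1 <;> rw [hz1] at e'
  · rw [mul_one] at e'
    exact ⟨y, k, Or.inl rfl, e', by rw [hb, e', map_mul]⟩
  · have e2 : (y : G) * S.θ x * (y : G)⁻¹ = S.θ ((k : RG) * bR) := by
      rw [map_mul, ← e', mul_assoc _ (S.θ bR), ← map_mul, bR_sq, map_one, mul_one]
    exact ⟨y, _, Or.inr rfl, e2, by rw [hb, e2, ← map_mul]⟩

theorem TCl.ne_one {x : RG} (ht : TCl x) : x ≠ 1 := fun e => by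
  obtain ⟨c, hc⟩ := ht
  have : tR = c⁻¹ * x * c := by rw [hc]; group
  rw [e, mul_one, inv_mul_cancel] at this
  exact W_diff (u := [0, 0]) (v := []) (by decide +kernel) (this.trans W_nil.symm)

theorem Hyp.conj_kind {x : KK} (hx : (x : RG) ∈ PR ∨ (x : RG) ∈ AR) {g : S.X} {k : KK}
    (h : g * S.phi x * g⁻¹ = S.phi k) :
    ((x : RG) ∈ PR → (k : RG) ∈ PR) ∧ ((x : RG) ∈ AR → (k : RG) ∈ AR) := by
  -- a lift of the first class
  have hT : ∃ x' : KK, S.phi x' = S.phi x ∧ TCl (x' : RG) ∧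
      ((x : RG) ∈ PR → (x' : RG) ∈ PR ∧ TCl ((x' : RG) * bR)) ∧
      ((x : RG) ∈ AR → BCl ((x' : RG) * bR)) := by
    rcases hx with hp | ha
    · refine ⟨x, rfl, TCl_PR hp, fun _ => ⟨hp, TCl_PR (PR_mul_b hp)⟩, fun ha => ?_⟩
      rcases AR_split ha with ⟨-, hb⟩ | ⟨hb, -⟩
      · exact hb
      · exact absurd hb fun hb => S.not_TB' (TCl_PR hp) hb
    · rcases AR_split ha with ⟨ht, hb⟩ | ⟨hb, ht⟩
      · exact ⟨x, rfl, ht, fun hp => ⟨hp, TCl_PR (PR_mul_b hp)⟩, fun _ => hb⟩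
      · refine ⟨⟨x * bR, AR_mem (AR_mul_b ha)⟩, S.phi_eq.2 (Or.inr ?_), ht,
          fun hp => (S.not_TB' (TCl_PR hp) hb).elim, fun _ => ?_⟩
        · show (x : RG) = x * bR * bR
          rw [mul_assoc, bR_sq, mul_one]
        · show BCl ((x : RG) * bR * bR)
          rwa [mul_assoc, bR_sq, mul_one]
  obtain ⟨x', hxx, ht, hP, hA⟩ := hT
  rw [← hxx] at h
  obtain ⟨y, k', hk', e1, e2⟩ := S.lift_conj h
  have hk'm : k' ∈ KK := by
    rcases hk' with rfl | rfl
    · exact k.2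
    · refine mul_mem k.2 ?_
      have := el_mem (0 ^^^ 256)
      rwa [el, holds.elt_xor_256, elt_zero, one_mul] at this
  have back : k' ∈ PR → (k : RG) ∈ PR := fun hp => by
    rcases hk' with rfl | rfl
    · exact hp
    · have := PR_mul_b hp; rwa [mul_assoc, bR_sq, mul_one] at this
  have back' : k' ∈ AR → (k : RG) ∈ AR := fun hp => by
    rcases hk' with rfl | rfl
    · exact hp
    · have := AR_mul_b hp; rwa [mul_assoc, bR_sq, mul_one] at this
  have hx2 : (x' : RG) * x' = 1 := by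
    obtain ⟨c, hc⟩ := ht
    have h2 : tR * tR = 1 := by rw [tR, ← W_append, ← W_nil]; exact W_same (by decide +kernel)
    rw [hc, show c * tR * c⁻¹ * (c * tR * c⁻¹) = c * (tR * tR) * c⁻¹ by group, h2]; group
  have hk2 : k' * k' = 1 := by
    apply S.inj
    rw [map_mul, map_one, ← e1, show y * S.θ x' * y⁻¹ * (y * S.θ x' * y⁻¹) = y * (S.θ x' * S.θ x') * y⁻¹ by group,
      ← map_mul, hx2, map_one]
    group
  have notB : ¬ BCl k' := fun hB =>
    S.not_TB ht hB y⁻¹ (by rw [← e1]; group)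
  rcases invol_cases hk'm hk2 with h1 | hp | ha | hB
  · exfalso
    rw [h1, map_one, mul_inv_eq_one, mul_eq_left] at e1
    exact ht.ne_one (S.inj (e1.trans (map_one S.θ).symm))
  · refine ⟨fun _ => back hp, fun ha => ?_⟩
    exact (S.not_TB (TCl_PR (PR_mul_b hp)) (hA ha) y e2).elim
  · refine ⟨fun hpx => ?_, fun _ => back' ha⟩
    rcases AR_split ha with ⟨-, hb⟩ | ⟨hb, -⟩
    · exact (S.not_TB (hP hpx).2 hb y⁻¹ (by rw [← e2]; group)).elim
    · exact (notB hb).elim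
  · exact (notB hB).elim

theorem Hyp.transfer_t {g : S.X} (h : g * S.phi ⟨tR, tR_mem⟩ = S.phi ⟨tR, tR_mem⟩ * g) :
    g ∈ S.phi.range := by
  have h' : g * S.phi ⟨tR, tR_mem⟩ * g⁻¹ = S.phi ⟨tR, tR_mem⟩ := by rw [h, mul_inv_cancel_right]
  obtain ⟨y, rfl⟩ := QuotientGroup.mk'_surjective S.Z g
  suffices (y : G) ∈ (S.θ.comp KK.subtype).range by
    obtain ⟨k, hk⟩ := this
    exact ⟨k, congrArg (QuotientGroup.mk' S.Z) (Subtype.ext hk)⟩
  have hmain : ∀ u : G, u ∈ S.Y → u * S.θ tR = S.θ tR * u → u ∈ (S.θ.comp KK.subtype).range := by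
    intro u hu hut
    obtain ⟨r, rfl⟩ := S.cent u hut
    refine ⟨⟨r, cent_le_KK ⟨Subgroup.mem_centralizer_singleton_iff.2 (S.inj ?_),
      Subgroup.mem_centralizer_singleton_iff.2 (S.inj ?_)⟩⟩, rfl⟩
    · rw [map_mul, map_mul]; exact hut
    · rw [map_mul, map_mul]; exact Subgroup.mem_centralizer_singleton_iff.1 hu
  obtain ⟨hp, hpc⟩ := tb_path
  set p := pathK tbPath
  rw [Hyp.phi, MonoidHom.comp_apply, ← map_inv, ← map_mul, ← map_mul, QuotientGroup.mk'_eq_mk'] at h'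
  obtain ⟨z, hz, e⟩ := h'
  have e' : (y : G) * S.θ tR * (y : G)⁻¹ * z = S.θ tR := congrArg Subtype.val e
  rcases S.mem_Z hz with hz1 | hz1 <;> rw [hz1] at e'
  · rw [mul_one, mul_inv_eq_iff_eq_mul] at e'
    exact hmain _ y.2 e'
  · have e2 : (y : G) * S.θ tR * (y : G)⁻¹ = S.θ (tR * bR) := by
      rw [map_mul]
      calc _ = (y : G) * S.θ tR * (y : G)⁻¹ * (S.θ bR * S.θ bR) := by rw [← map_mul, bR_sq, map_one, mul_one]
        _ = _ := by rw [← mul_assoc, e']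
    have := hmain ((S.θ p)⁻¹ * y) (mul_mem (inv_mem (S.toY ⟨p, hp⟩).2) y.2) (by
      calc (S.θ p)⁻¹ * y * S.θ tR = (S.θ p)⁻¹ * ((y : G) * S.θ tR * (y : G)⁻¹) * y := by group
        _ = (S.θ p)⁻¹ * S.θ (p * tR * p⁻¹) * y := by rw [e2, hpc]
        _ = _ := by simp only [map_mul, map_inv]; group)
    obtain ⟨k, hk⟩ := this
    exact ⟨⟨p, hp⟩ * k, by
      rw [map_mul, hk]
      show S.θ p * ((S.θ p)⁻¹ * (y : G)) = y
      group⟩

end Cfsg.Agent.HNRec.Global
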