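import Cfsg.Agent.HNRec.Global.Basic
import Cfsg.Agent.HNRec.Global.Data.Small
import Cfsg.Agent.HNRec.Global.Mat.Check0
import Cfsg.Agent.HNRec.Global.Mat.Check1
import Cfsg.Agent.HNRec.Global.Mat.Check2
import Cfsg.Agent.HNRec.Global.Mat.Check3
import Cfsg.Agent.HNRec.Global.Mat.Check4
import Cfsg.Agent.HNRec.Global.Mat.Check5

/-!
The element `s` and the identities between it and words of the model.
-/

set_option autoImplicit false
set_option maxRecDepth 100000

namespace Cfsg.Agent.HNRec.Global

open Cfsg.Agent.HNSub Cfsg.Agent.HNA12 Cfsg.Agent.HNOrder Cfsg.Agent.CosetCert Cfsg.Spor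

theorem good_g9 (x : ℕ) : Good 133 (rowsOf 133 (g9 x)) := by
  rw [g9]
  cases Nat.beq x 8
  · exact good_m133 x
  · exact good_of_check (A := rowsOf 133 sMat) (by decide +kernel)

/-- The involution `s`. -/
def sE : RG := ev sLits

/-- The element of a numbered letter, `8` being `s`. -/
def L9 (x : ℕ) : RG := cond (Nat.beq x 8) sE (lE x)

/-- The element of a word in the nine letters. -/
def ev9 (w : List ℕ) : RG := (w.map L9).prod

theorem ev9_append (u v : List ℕ) : ev9 (u ++ v) = ev9 u * ev9 v := by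
  rw [ev9, List.map_append, List.prod_append]; rfl

theorem ev9_s : ev9 [8] = sE := by simp [ev9, L9]

theorem ev9_eq_ev : ∀ {w : List ℕ}, w.all (Nat.blt · 8) = true → ev9 w = ev w
  | [], _ => rfl
  | x :: w, h => by
    rw [List.all_cons, Bool.and_eq_true, Nat.blt_eq] at h
    have hx : Nat.beq x 8 = false := by rw [← Bool.not_eq_true, Nat.beq_eq]; omega
    rw [show ev9 (x :: w) = L9 x * ev9 w by simp [ev9], ev9_eq_ev h.2, L9, hx]
    simp [ev]

theorem rep_sE : ((hnRep sE : (Matrix (Fin 133) (Fin 133) (ZMod 41))ˣ) : Matrix (Fin 133) (Fin 133) (ZMod 41)) =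
    toMat 133 (rowsOf 133 sMat) := by
  rw [sE, rep_ev (by decide +kernel)]
  exact part_spec good_m133 (by
    rw [(good_of_check (A := rowsOf 133 sMat) (n := 133) (by decide +kernel)).1]; norm_num) sProd

theorem rep_ev9 : ∀ {w : List ℕ}, w.all (Nat.blt · 9) = true →
    ((hnRep (ev9 w) : (Matrix (Fin 133) (Fin 133) (ZMod 41))ˣ) : Matrix (Fin 133) (Fin 133) (ZMod 41)) =
      (w.map fun x => toMat 133 (rowsOf 133 (g9 x))).prod
  | [], _ => by simp [ev9]
  | x :: w, h => by
    rw [List.all_cons, Bool.and_eq_true, Nat.blt_eq] at h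
    rw [show ev9 (x :: w) = L9 x * ev9 w by simp [ev9], map_mul, Units.val_mul, rep_ev9 h.2,
      List.map_cons, List.prod_cons]
    congr 1
    rw [L9, g9]
    cases hx : Nat.beq x 8
    · simp only [cond_false]
      rw [rep_lE (by
        have : x ≠ 8 := fun e => by rw [e, Nat.beq_refl] at hx; exact absurd hx (by decide)
        omega)]
      rfl
    · exact rep_sE

theorem ev9_one {w : List ℕ} (hw : w.all (Nat.blt · 9) = true)
    (h : ∀ k, k < 5 → partB g9 id133 w k = true) : ev9 w = 1 := by
  apply hnRep_injective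
  refine Units.ext ?_
  rw [rep_ev9 hw, map_one, Units.val_one, ← toMat_id133]
  exact part_spec good_g9 (by rw [good_id133.1]; norm_num) h

/-- The inverse word of the model. -/
def inv6 (w : List ℕ) : List ℕ := w.reverse.map flipLetter

theorem lE_flip : ∀ g < 6, lE (cvL (flipLetter g)) = (lE (cvL g))⁻¹ := by
  intro g hg
  rw [lE, lE, ← map_inv, FreeGroup.inv_mk]
  congr 1
  interval_cases g <;> rfl

theorem ev_inv6 : ∀ {w : List ℕ}, w.all (Nat.blt · 6) = true → ev (cvW (inv6 w)) = (ev (cvW w))⁻¹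
  | [], _ => by simp [inv6, ev, cvW]
  | x :: w, h => by
    rw [List.all_cons, Bool.and_eq_true, Nat.blt_eq] at h
    rw [show inv6 (x :: w) = inv6 w ++ [flipLetter x] by simp [inv6], cvW, List.map_append,
      ev_append, ← cvW, ev_inv6 h.2]
    simp [ev, cvW, lE_flip x h.1, mul_inv_rev]

/-- A word of the model inside the nine letters. -/
theorem ev9_cvW {w : List ℕ} (h : w.all (Nat.blt · 6) = true) : ev9 (cvW w) = iH (hE w) := by
  rw [iH_hE h, ev9_eq_ev]
  rw [List.all_eq_true] at h ⊢
  intro x hx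
  obtain ⟨y, hy, rfl⟩ := List.mem_map.1 hx
  have := Nat.blt_eq.mp (h y hy)
  interval_cases y <;> decide

theorem ev9_inv6 {w : List ℕ} (h : w.all (Nat.blt · 6) = true) :
    ev9 (cvW (inv6 w)) = (iH (hE w))⁻¹ := by
  have h' : (inv6 w).all (Nat.blt · 6) = true := by
    rw [List.all_eq_true] at h ⊢
    intro x hx
    obtain ⟨y, hy, rfl⟩ := List.mem_map.1 hx
    have := Nat.blt_eq.mp (h y (List.mem_reverse.1 hy))
    interval_cases y <;> decide
  rw [ev9_cvW h', iH_hE h', iH_hE h, ev_inv6 h]

open Data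

/-- A word of the model, as an element of the presented group. -/
noncomputable def W (w : List ℕ) : RG := iH (hE w)

theorem W_append (u v : List ℕ) : W (u ++ v) = W u * W v := by rw [W, hE_append, map_mul]; rfl

theorem W_same {u v : List ℕ} (h : sameW u v = true) : W u = W v := congrArg iH (sameW_spec h)

theorem W_diff {u v : List ℕ} (h : diffW u v = true) : W u ≠ W v := fun e => diffW_spec h (iH_injective e)

theorem sE_sq : sE * sE = 1 := by
  have h := ev9_one (w := rel0) (by decide +kernel) rel0_ok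
  rwa [show rel0 = [8] ++ [8] from rfl, ev9_append, ev9_s] at h

theorem sE_inv : sE⁻¹ = sE := inv_eq_of_mul_eq_one_right sE_sq

/-- The relator of a conjugate under `s`. -/
def sdRel (k : ℕ) : List ℕ := [8] ++ cvW (dW.getD k []) ++ [8] ++ cvW (inv6 (sdW.getD k []))

theorem sd_spec {k : ℕ} (hw : (sdRel k).all (Nat.blt · 9) = true)
    (hd : (dW.getD k []).all (Nat.blt · 6) = true) (hs : (sdW.getD k []).all (Nat.blt · 6) = true)
    (h : ∀ i, i < 5 → partB g9 id133 (sdRel k) i = true) :
    sE * W (dW.getD k []) * sE = W (sdW.getD k []) := by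
  have h' := ev9_one hw h
  rwa [sdRel, ev9_append, ev9_append, ev9_append, ev9_s, ev9_cvW hd, ev9_inv6 hs, mul_inv_eq_one] at h'

theorem sd_zero : sE * W (dW.getD 0 []) * sE = W (sdW.getD 0 []) :=
  sd_spec (by decide +kernel) (by decide +kernel) (by decide +kernel) ((by decide +kernel : rel1 = sdRel 0) ▸ rel1_ok)

theorem sd_all : ∀ k < 5, sE * W (dW.getD k []) * sE = W (sdW.getD k [])
  | 0, _ => sd_zero
  | 1, _ => by
    rw [show dW.getD 1 [] = sdW.getD 0 [] from rfl, ← sd_zero,
      show sdW.getD 1 [] = dW.getD 0 [] from rfl]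
    simp only [← mul_assoc, sE_sq, one_mul]
    rw [mul_assoc, sE_sq, mul_one]
  | 2, _ => sd_spec (by decide +kernel) (by decide +kernel) (by decide +kernel) ((by decide +kernel : rel2 = sdRel 2) ▸ rel2_ok)
  | 3, _ => sd_spec (by decide +kernel) (by decide +kernel) (by decide +kernel) ((by decide +kernel : rel3 = sdRel 3) ▸ rel3_ok)
  | 4, _ => sd_spec (by decide +kernel) (by decide +kernel) (by decide +kernel) ((by decide +kernel : rel4 = sdRel 4) ▸ rel4_ok)
  | k + 5, h => absurd h (by omega)

end Cfsg.Agent.HNRec.Global
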